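import Mathlib

/-!
# Coded `3 × 3` matrices over `ZMod 3`

A matrix is coded by the number with the digits of its entries in base `3`; the product and the determinant are
computed on codes.
-/

set_option autoImplicit false

open scoped BigOperators

namespace Cfsg.Agent.H599.M23.Code3

/-- the group -/
abbrev S : Type := Matrix.SpecialLinearGroup (Fin 3) (ZMod 3)

/-- the digit of weight `w` -/
def dg (c w : Nat) : Nat := Nat.mod (Nat.div c w) 3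

/-- the code with the given digits -/
def mk (x0 x1 x2 x3 x4 x5 x6 x7 x8 : Nat) : Nat :=
  Nat.add x0 (Nat.mul 3 (Nat.add x1 (Nat.mul 3 (Nat.add x2 (Nat.mul 3 (Nat.add x3 (Nat.mul 3 (Nat.add x4 (Nat.mul 3
    (Nat.add x5 (Nat.mul 3 (Nat.add x6 (Nat.mul 3 (Nat.add x7 (Nat.mul 3 x8)))))))))))))))

/-- an entry of a product -/
def e3 (x y z p q r : Nat) : Nat := Nat.mod (Nat.add (Nat.mul x p) (Nat.add (Nat.mul y q) (Nat.mul z r))) 3

/-- the product -/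
def mulC (a b : Nat) : Nat :=
  mk (e3 (dg a 1) (dg a 3) (dg a 9) (dg b 1) (dg b 27) (dg b 729))
    (e3 (dg a 1) (dg a 3) (dg a 9) (dg b 3) (dg b 81) (dg b 2187))
    (e3 (dg a 1) (dg a 3) (dg a 9) (dg b 9) (dg b 243) (dg b 6561))
    (e3 (dg a 27) (dg a 81) (dg a 243) (dg b 1) (dg b 27) (dg b 729))
    (e3 (dg a 27) (dg a 81) (dg a 243) (dg b 3) (dg b 81) (dg b 2187))
    (e3 (dg a 27) (dg a 81) (dg a 243) (dg b 9) (dg b 243) (dg b 6561))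
    (e3 (dg a 729) (dg a 2187) (dg a 6561) (dg b 1) (dg b 27) (dg b 729))
    (e3 (dg a 729) (dg a 2187) (dg a 6561) (dg b 3) (dg b 81) (dg b 2187))
    (e3 (dg a 729) (dg a 2187) (dg a 6561) (dg b 9) (dg b 243) (dg b 6561))

/-- the determinant, from the digits -/
def detD (x0 x1 x2 x3 x4 x5 x6 x7 x8 : Nat) : Nat :=
  Nat.mod (Nat.add (Nat.mul x0 (Nat.add (Nat.mul x4 x8) (Nat.mul 2 (Nat.mul x5 x7))))
    (Nat.add (Nat.mul x1 (Nat.add (Nat.mul 2 (Nat.mul x3 x8)) (Nat.mul x5 x6)))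
      (Nat.mul x2 (Nat.add (Nat.mul x3 x7) (Nat.mul 2 (Nat.mul x4 x6)))))) 3

/-- the determinant of a code -/
def detC (c : Nat) : Nat :=
  detD (dg c 1) (dg c 3) (dg c 9) (dg c 27) (dg c 81) (dg c 243) (dg c 729) (dg c 2187) (dg c 6561)

/-- the matrix of a code -/
def tm (c : Nat) : Matrix (Fin 3) (Fin 3) (ZMod 3) :=
  !![(dg c 1 : ZMod 3), (dg c 3 : ZMod 3), (dg c 9 : ZMod 3);
    (dg c 27 : ZMod 3), (dg c 81 : ZMod 3), (dg c 243 : ZMod 3);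
    (dg c 729 : ZMod 3), (dg c 2187 : ZMod 3), (dg c 6561 : ZMod 3)]

/-- the code of a matrix -/
def cdM (M : Matrix (Fin 3) (Fin 3) (ZMod 3)) : Nat :=
  mk (M 0 0).val (M 0 1).val (M 0 2).val (M 1 0).val (M 1 1).val (M 1 2).val (M 2 0).val (M 2 1).val (M 2 2).val

/-- the code of an element -/
def cd (g : S) : Nat := cdM g.1

theorem e3_lt (x y z p q r : Nat) : e3 x y z p q r < 3 := Nat.mod_lt _ (by norm_num)

theorem dg_lt (c w : Nat) : dg c w < 3 := Nat.mod_lt _ (by norm_num)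

theorem mk_eq (x0 x1 x2 x3 x4 x5 x6 x7 x8 : Nat) : mk x0 x1 x2 x3 x4 x5 x6 x7 x8 =
    x0 + 3 * (x1 + 3 * (x2 + 3 * (x3 + 3 * (x4 + 3 * (x5 + 3 * (x6 + 3 * (x7 + 3 * x8))))))) := rfl

theorem lt_step {x y b : Nat} (hx : x < 3) (hy : y < b) : x + 3 * y < 3 * b := by omega

theorem mk_lt {x0 x1 x2 x3 x4 x5 x6 x7 x8 : Nat} (h0 : x0 < 3) (h1 : x1 < 3) (h2 : x2 < 3) (h3 : x3 < 3)
    (h4 : x4 < 3) (h5 : x5 < 3) (h6 : x6 < 3) (h7 : x7 < 3) (h8 : x8 < 3) :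
    mk x0 x1 x2 x3 x4 x5 x6 x7 x8 < 19683 := by
  rw [mk_eq]
  exact lt_step h0 (lt_step h1 (lt_step h2 (lt_step h3 (lt_step h4 (lt_step h5 (lt_step h6 (lt_step h7 h8)))))))

theorem dg_succ {x y : Nat} (w : Nat) (hx : x < 3) : dg (Nat.add x (Nat.mul 3 y)) (3 * w) = dg y w := by
  show (x + 3 * y) / (3 * w) % 3 = y / w % 3
  rw [← Nat.div_div_eq_div_mul]
  have : (x + 3 * y) / 3 = y := by omega
  rw [this]

theorem dg_zero {x y : Nat} (hx : x < 3) : dg (Nat.add x (Nat.mul 3 y)) 1 = x := by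
  show (x + 3 * y) / 1 % 3 = x
  omega

theorem dg_last {x : Nat} (hx : x < 3) : dg x 1 = x := by
  show x / 1 % 3 = x
  omega

theorem dg_mk {x0 x1 x2 x3 x4 x5 x6 x7 x8 : Nat} (h0 : x0 < 3) (h1 : x1 < 3) (h2 : x2 < 3) (h3 : x3 < 3)
    (h4 : x4 < 3) (h5 : x5 < 3) (h6 : x6 < 3) (h7 : x7 < 3) (h8 : x8 < 3) :
    dg (mk x0 x1 x2 x3 x4 x5 x6 x7 x8) 1 = x0 ∧ dg (mk x0 x1 x2 x3 x4 x5 x6 x7 x8) 3 = x1 ∧
    dg (mk x0 x1 x2 x3 x4 x5 x6 x7 x8) 9 = x2 ∧ dg (mk x0 x1 x2 x3 x4 x5 x6 x7 x8) 27 = x3 ∧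
    dg (mk x0 x1 x2 x3 x4 x5 x6 x7 x8) 81 = x4 ∧ dg (mk x0 x1 x2 x3 x4 x5 x6 x7 x8) 243 = x5 ∧
    dg (mk x0 x1 x2 x3 x4 x5 x6 x7 x8) 729 = x6 ∧ dg (mk x0 x1 x2 x3 x4 x5 x6 x7 x8) 2187 = x7 ∧
    dg (mk x0 x1 x2 x3 x4 x5 x6 x7 x8) 6561 = x8 ∧ mk x0 x1 x2 x3 x4 x5 x6 x7 x8 < 19683 := by
  unfold mk
  refine ⟨dg_zero h0, ?_, ?_, ?_, ?_, ?_, ?_, ?_, ?_, ?_⟩
  · rw [show (3 : ℕ) = 3 * 1 from rfl, dg_succ 1 h0]; exact dg_zero h1
  · rw [show (9 : ℕ) = 3 * 3 from rfl, dg_succ 3 h0, show (3 : ℕ) = 3 * 1 from rfl, dg_succ 1 h1]; exact dg_zero h2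
  · exact (dg_succ 9 h0).trans ((dg_succ 3 h1).trans ((dg_succ 1 h2).trans (dg_zero h3)))
  · exact (dg_succ 27 h0).trans ((dg_succ 9 h1).trans ((dg_succ 3 h2).trans ((dg_succ 1 h3).trans (dg_zero h4))))
  · exact (dg_succ 81 h0).trans ((dg_succ 27 h1).trans ((dg_succ 9 h2).trans ((dg_succ 3 h3).trans
      ((dg_succ 1 h4).trans (dg_zero h5)))))
  · exact (dg_succ 243 h0).trans ((dg_succ 81 h1).trans ((dg_succ 27 h2).trans ((dg_succ 9 h3).trans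
      ((dg_succ 3 h4).trans ((dg_succ 1 h5).trans (dg_zero h6))))))
  · exact (dg_succ 729 h0).trans ((dg_succ 243 h1).trans ((dg_succ 81 h2).trans ((dg_succ 27 h3).trans
      ((dg_succ 9 h4).trans ((dg_succ 3 h5).trans ((dg_succ 1 h6).trans (dg_zero h7)))))))
  · exact (dg_succ 2187 h0).trans ((dg_succ 729 h1).trans ((dg_succ 243 h2).trans ((dg_succ 81 h3).trans
      ((dg_succ 27 h4).trans ((dg_succ 9 h5).trans ((dg_succ 3 h6).trans ((dg_succ 1 h7).trans (dg_last h8))))))))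
  · exact mk_lt h0 h1 h2 h3 h4 h5 h6 h7 h8

theorem div_step (c w : Nat) : dg c w + 3 * (c / (3 * w)) = c / w := by
  show c / w % 3 + 3 * (c / (3 * w)) = c / w
  rw [mul_comm 3 w, ← Nat.div_div_eq_div_mul]
  exact Nat.mod_add_div _ _

theorem mk_dg {c : Nat} (hc : c < 19683) :
    mk (dg c 1) (dg c 3) (dg c 9) (dg c 27) (dg c 81) (dg c 243) (dg c 729) (dg c 2187) (dg c 6561) = c := by
  have e : ∀ x0 x1 x2 x3 x4 x5 x6 x7 x8, mk x0 x1 x2 x3 x4 x5 x6 x7 x8 = x0 + 3 * (x1 + 3 * (x2 + 3 * (x3 + 3 * (x4 +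
    3 * (x5 + 3 * (x6 + 3 * (x7 + 3 * x8))))))) := fun _ _ _ _ _ _ _ _ _ => rfl
  rw [e]
  have h0 := div_step c 1
  have h1 := div_step c 3
  have h2 := div_step c 9
  have h3 := div_step c 27
  have h4 := div_step c 81
  have h5 := div_step c 243
  have h6 := div_step c 729
  have h7 := div_step c 2187
  have h8 := div_step c 6561
  norm_num only at h0 h1 h2 h3 h4 h5 h6 h7 h8
  have h9 : c / 19683 = 0 := Nat.div_eq_of_lt hc
  rw [h9] at h8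
  rw [mul_zero, add_zero] at h8
  rw [h8, h7, h6, h5, h4, h3, h2, h1, h0, Nat.div_one]

theorem tm_mk {x0 x1 x2 x3 x4 x5 x6 x7 x8 : Nat} (h0 : x0 < 3) (h1 : x1 < 3) (h2 : x2 < 3) (h3 : x3 < 3)
    (h4 : x4 < 3) (h5 : x5 < 3) (h6 : x6 < 3) (h7 : x7 < 3) (h8 : x8 < 3) :
    tm (mk x0 x1 x2 x3 x4 x5 x6 x7 x8) = !![(x0 : ZMod 3), (x1 : ZMod 3), (x2 : ZMod 3);
      (x3 : ZMod 3), (x4 : ZMod 3), (x5 : ZMod 3); (x6 : ZMod 3), (x7 : ZMod 3), (x8 : ZMod 3)] := by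
  obtain ⟨a0, a1, a2, a3, a4, a5, a6, a7, a8, -⟩ := dg_mk h0 h1 h2 h3 h4 h5 h6 h7 h8
  unfold tm
  rw [a0, a1, a2, a3, a4, a5, a6, a7, a8]

theorem cast_e3 (x y z p q r : Nat) : ((e3 x y z p q r : Nat) : ZMod 3) = x * p + y * q + z * r := by
  have : e3 x y z p q r = (x * p + (y * q + z * r)) % 3 := rfl
  rw [this, ZMod.natCast_mod]
  push_cast
  ring

theorem tm_mul (a b : Nat) : tm (mulC a b) = tm a * tm b := by
  unfold mulC
  rw [tm_mk (e3_lt _ _ _ _ _ _) (e3_lt _ _ _ _ _ _) (e3_lt _ _ _ _ _ _) (e3_lt _ _ _ _ _ _) (e3_lt _ _ _ _ _ _)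
    (e3_lt _ _ _ _ _ _) (e3_lt _ _ _ _ _ _) (e3_lt _ _ _ _ _ _) (e3_lt _ _ _ _ _ _)]
  ext i j
  rw [Matrix.mul_apply, Fin.sum_univ_three]
  fin_cases i <;> fin_cases j <;> simp [tm, cast_e3]

theorem cdM_tm {c : Nat} (hc : c < 19683) : cdM (tm c) = c := by
  have hv : ∀ w, ((dg c w : Nat) : ZMod 3).val = dg c w := fun w => by
    rw [ZMod.val_natCast, Nat.mod_eq_of_lt (dg_lt c w)]
  have : cdM (tm c) = mk (dg c 1) (dg c 3) (dg c 9) (dg c 27) (dg c 81) (dg c 243) (dg c 729) (dg c 2187)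
      (dg c 6561) := by
    simp [cdM, tm, hv]
  rw [this, mk_dg hc]

theorem tm_cdM (M : Matrix (Fin 3) (Fin 3) (ZMod 3)) : tm (cdM M) = M := by
  unfold cdM
  rw [tm_mk (ZMod.val_lt _) (ZMod.val_lt _) (ZMod.val_lt _) (ZMod.val_lt _) (ZMod.val_lt _) (ZMod.val_lt _)
    (ZMod.val_lt _) (ZMod.val_lt _) (ZMod.val_lt _)]
  ext i j
  fin_cases i <;> fin_cases j <;> simp

theorem cdM_lt (M : Matrix (Fin 3) (Fin 3) (ZMod 3)) : cdM M < 19683 := by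
  unfold cdM
  exact (dg_mk (ZMod.val_lt _) (ZMod.val_lt _) (ZMod.val_lt _) (ZMod.val_lt _) (ZMod.val_lt _) (ZMod.val_lt _)
    (ZMod.val_lt _) (ZMod.val_lt _) (ZMod.val_lt _)).2.2.2.2.2.2.2.2.2

theorem mulC_lt (a b : Nat) : mulC a b < 19683 := by
  unfold mulC
  exact (dg_mk (e3_lt _ _ _ _ _ _) (e3_lt _ _ _ _ _ _) (e3_lt _ _ _ _ _ _) (e3_lt _ _ _ _ _ _) (e3_lt _ _ _ _ _ _)
    (e3_lt _ _ _ _ _ _) (e3_lt _ _ _ _ _ _) (e3_lt _ _ _ _ _ _) (e3_lt _ _ _ _ _ _)).2.2.2.2.2.2.2.2.2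

theorem cd_lt (g : S) : cd g < 19683 := cdM_lt _

theorem tm_cd (g : S) : tm (cd g) = g.1 := tm_cdM _

theorem cd_inj {g h : S} (e : cd g = cd h) : g = h := by
  apply Subtype.ext
  rw [← tm_cd g, ← tm_cd h, e]

theorem cd_mul (g h : S) : cd (g * h) = mulC (cd g) (cd h) := by
  have h1 : (g * h : S).1 = tm (mulC (cd g) (cd h)) := by
    rw [tm_mul, tm_cd, tm_cd]; rfl
  unfold cd
  rw [h1]
  exact cdM_tm (mulC_lt _ _)

theorem detD_cast (x0 x1 x2 x3 x4 x5 x6 x7 x8 : Nat) : ((detD x0 x1 x2 x3 x4 x5 x6 x7 x8 : Nat) : ZMod 3) =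
    (!![(x0 : ZMod 3), (x1 : ZMod 3), (x2 : ZMod 3); (x3 : ZMod 3), (x4 : ZMod 3), (x5 : ZMod 3);
      (x6 : ZMod 3), (x7 : ZMod 3), (x8 : ZMod 3)]).det := by
  have : detD x0 x1 x2 x3 x4 x5 x6 x7 x8 = (x0 * (x4 * x8 + 2 * (x5 * x7)) + (x1 * (2 * (x3 * x8) + x5 * x6) +
    x2 * (x3 * x7 + 2 * (x4 * x6)))) % 3 := rfl
  rw [this, ZMod.natCast_mod, Matrix.det_fin_three]
  have h2 : (2 : ZMod 3) = -1 := by decide
  push_cast
  rw [h2]
  simp
  ring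

theorem detC_cast (c : Nat) : ((detC c : Nat) : ZMod 3) = (tm c).det := detD_cast _ _ _ _ _ _ _ _ _

theorem detC_lt (c : Nat) : detC c < 3 := Nat.mod_lt _ (by norm_num)

theorem detC_eq_one {c : Nat} : detC c = 1 ↔ (tm c).det = 1 := by
  rw [← detC_cast]
  have h := detC_lt c
  constructor
  · intro e; rw [e]; rfl
  · intro e
    interval_cases detC c <;> first | rfl | (exfalso; revert e; decide)

theorem detC_cd (g : S) : detC (cd g) = 1 := by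
  rw [detC_eq_one, tm_cd]
  exact g.2

/-- the value at a code -/
noncomputable def ev (f : S → ℂ) (c : Nat) : ℂ := if h : (tm c).det = 1 then f ⟨tm c, h⟩ else 0

theorem ev_cd (f : S → ℂ) (g : S) : ev f (cd g) = f g := by
  have h : (tm (cd g)).det = 1 := detC_eq_one.mp (detC_cd g)
  unfold ev
  rw [dif_pos h]
  congr 1
  exact Subtype.ext (tm_cd g)

/-- the element of a code -/
def el (c : Nat) (h : detC c = 1) : S := ⟨tm c, detC_eq_one.mp h⟩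

theorem ev_el (f : S → ℂ) {c : Nat} (h : detC c = 1) : ev f c = f (el c h) := by
  unfold ev el
  rw [dif_pos (detC_eq_one.mp h)]

theorem cd_el {c : Nat} (h : detC c = 1) (hc : c < 19683) : cd (el c h) = c := cdM_tm hc

theorem detC_mulC {a b : Nat} (ha : detC a = 1) (hb : detC b = 1) : detC (mulC a b) = 1 := by
  rw [detC_eq_one] at *
  rw [tm_mul, Matrix.det_mul, ha, hb, one_mul]

theorem el_mul {a b : Nat} (ha : detC a = 1) (hb : detC b = 1) :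
    el a ha * el b hb = el (mulC a b) (detC_mulC ha hb) := by
  apply Subtype.ext
  exact (tm_mul a b).symm

/-- class functions -/
theorem ev_conj {f : S → ℂ} (hf : ∀ x y, f (x * y * x⁻¹) = f y) {a q r : Nat} (ha : detC a = 1) (hq : detC q = 1)
    (hr : detC r = 1) (h : mulC a q = mulC q r) : ev f a = ev f r := by
  rw [ev_el f ha, ev_el f hr]
  have h1 : el a ha * el q hq = el q hq * el r hr := by
    rw [el_mul, el_mul]
    apply Subtype.ext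
    show tm (mulC a q) = tm (mulC q r)
    rw [h]
  have h2 : el a ha = el q hq * el r hr * (el q hq)⁻¹ := by rw [← h1]; group
  rw [h2, hf]

/-- the sum over a list of elements -/
theorem sum_list {l : List Nat} (hl : l.Nodup) (hv : ∀ c ∈ l, c < 19683 ∧ detC c = 1) (F : S → ℂ) :
    ∑ g : S with cd g ∈ l, F g = (l.map (ev F)).sum := by
  classical
  rw [← List.sum_toFinset _ hl]
  refine Finset.sum_bij (fun g _ => cd g) ?_ ?_ ?_ ?_
  · intro g hg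
    rw [Finset.mem_filter] at hg
    rw [List.mem_toFinset]
    exact hg.2
  · intro g _ h _ e
    exact cd_inj e
  · intro c hc
    rw [List.mem_toFinset] at hc
    obtain ⟨h1, h2⟩ := hv c hc
    refine ⟨el c h2, ?_, cd_el h2 h1⟩
    rw [Finset.mem_filter]
    exact ⟨Finset.mem_univ _, by rw [cd_el h2 h1]; exact hc⟩
  · intro g _
    exact (ev_cd F g).symm

/-! ### Loops -/

/-- for all digits -/
def all3 (p : Nat → Bool) : Bool := and (p 0) (and (p 1) (p 2))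

theorem all3_spec {p : Nat → Bool} (h : all3 p = true) {n : Nat} (hn : n < 3) : p n = true := by
  unfold all3 at h
  rw [Bool.and_eq_true, Bool.and_eq_true] at h
  interval_cases n
  · exact h.1
  · exact h.2.1
  · exact h.2.2

/-- for all matrices -/
def all9 (p : Nat → Nat → Nat → Nat → Nat → Nat → Nat → Nat → Nat → Bool) : Bool :=
  all3 fun a => all3 fun b => all3 fun c => all3 fun d => all3 fun e => all3 fun f => all3 fun g => all3 fun h =>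
    all3 fun i => p a b c d e f g h i

theorem all9_spec {p : Nat → Nat → Nat → Nat → Nat → Nat → Nat → Nat → Nat → Bool} (hp : all9 p = true)
    {x0 x1 x2 x3 x4 x5 x6 x7 x8 : Nat} (h0 : x0 < 3) (h1 : x1 < 3) (h2 : x2 < 3) (h3 : x3 < 3)
    (h4 : x4 < 3) (h5 : x5 < 3) (h6 : x6 < 3) (h7 : x7 < 3) (h8 : x8 < 3) : p x0 x1 x2 x3 x4 x5 x6 x7 x8 = true :=
  all3_spec (all3_spec (all3_spec (all3_spec (all3_spec (all3_spec (all3_spec (all3_spec (all3_spec hp h0) h1) h2) h3)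
    h4) h5) h6) h7) h8

theorem all9_cd {p : Nat → Nat → Nat → Nat → Nat → Nat → Nat → Nat → Nat → Bool} (hp : all9 p = true) (g : S) :
    p (g.1 0 0).val (g.1 0 1).val (g.1 0 2).val (g.1 1 0).val (g.1 1 1).val (g.1 1 2).val (g.1 2 0).val
      (g.1 2 1).val (g.1 2 2).val = true :=
  all9_spec hp (ZMod.val_lt _) (ZMod.val_lt _) (ZMod.val_lt _) (ZMod.val_lt _) (ZMod.val_lt _) (ZMod.val_lt _)
    (ZMod.val_lt _) (ZMod.val_lt _) (ZMod.val_lt _)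

end Cfsg.Agent.H599.M23.Code3
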