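import Cfsg.Agent.H599.M23.L33

/-!
# `core` in the form used by helper994 (`H994.M23.Sec13f.Core`)
-/

set_option autoImplicit false

open scoped BigOperators

namespace Cfsg.Agent.H599.M23.CoreC

open H924.M23 (N13)

/-- `H994.M23.Sec13f.Core` -/
theorem coreC {L : Type} [Group L] [Fintype L] (e : L ≃* Matrix.SpecialLinearGroup (Fin 3) (ZMod 3))
    (f : L → ℂ) (hf : ∀ x y, f (x * y * x⁻¹) = f y)
    (hint : ∀ H : Subgroup L, ¬ 13 ∣ Nat.card H → ∃ m : ℤ, (∑ᶠ h : H, f h) = m * Nat.card H) :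
    ∃ a1 a2 a3 b1 b2 b4 s : ℤ, f 1 = ((a1 + 11 * a2 + 16 * a3 + 13 * b1 + 26 * b2 + 26 * s + 39 * b4 : ℤ) : ℂ) ∧
      (∀ t, orderOf t = 2 → f t = ((a1 + 3 * a2 - 3 * b1 + 2 * b2 - 2 * s - b4 : ℤ) : ℂ)) ∧
      (N13 a1 a2 a3 : ℝ) / 13 + b1 ^ 2 + b2 ^ 2 + b4 ^ 2 + s ^ 2 / 2 ≤
        (∑ y : L with ¬ 13 ∣ orderOf y, ‖f y‖ ^ 2) / 5616 ∧
      ∀ w : ℤ, (∀ y, ∃ c : ℂ, IsIntegral ℤ c ∧ ∑ k : L with orderOf k = 2, f (y * k) = w * f y + 13 * c) →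
        (∃ z, orderOf z = 13 ∧ IsIntegral ℤ ((∑ j ∈ Finset.range 13, f (z ^ j)) / 13)) →
        13 ∣ w * a1 ∧ 13 ∣ w * a2 ∧ 13 ∣ w * a3 ∧ 13 ∣ (w + 1) * b1 ∧ 13 ∣ (w - 9) * b2 ∧ 13 ∣ (w + 3) * b4 ∧
          13 ∣ (w + 9) * s := by
  obtain ⟨a1, a2, a3, b1, b2, b4, s, h1, h2, h3, h4⟩ := L33.core e f hf hint
  refine ⟨a1, a2, a3, b1, b2, b4, s, ?_, ?_, h3, h4⟩
  · rw [h1]; push_cast; ring
  · intro t ht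
    rw [h2 t ht]; push_cast; ring

end Cfsg.Agent.H599.M23.CoreC
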