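import Cfsg.Agent.H599.M23.Code3

/-!
# Data in `SL₃(3)`: classes, involutions, subgroups, products
-/

set_option autoImplicit false
set_option maxRecDepth 100000

namespace Cfsg.Agent.H599.M23.Data3

open Code3

/-- the representatives of the twelve classes, packed -/
def rpT : Nat := 508435890616167313121982515780739579533532586776369651

/-- the representatives of the twelve classes `1, 2, 3A, 3B, 4, 6, 8A, 8B, 13A, 13B, 13C, 13D` -/
def rp (i : Nat) : Nat := Nat.mod (Nat.div rpT (Nat.pow 32768 i)) 32768

/-- the check that `q` conjugates `a` to `r` -/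
def chk (a q r : Nat) : Bool := and (Nat.beq (mulC a q) (mulC q r)) (Nat.beq (detC q) 1)

/-- the check of a list of items `19683 i + q` -/
def okL (y : Nat) : List Nat → List Nat → Bool
  | [], [] => true
  | c :: cs, t :: ts => and (chk (mulC y c) (Nat.mod t 19683) (rp (Nat.div t 19683))) (okL y cs ts)
  | _, _ => false

/-- membership -/
def memb (x : Nat) : List Nat → Bool
  | [] => false
  | a :: l => or (Nat.beq x a) (memb x l)

/-- validity -/
def valid : List Nat → Bool
  | [] => true
  | a :: l => and (and (Nat.blt a 19683) (Nat.beq (detC a) 1)) (and (not (memb a l)) (valid l))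

/-- closed under products with `a` -/
def clos1 (a : Nat) (l : List Nat) : List Nat → Bool
  | [] => true
  | b :: m => and (memb (mulC a b) l) (clos1 a l m)

/-- closed under products -/
def clos (l : List Nat) : List Nat → Bool
  | [] => true
  | a :: m => and (clos1 a l l) (clos l m)

/-- the number of items of the class `i` -/
def cnt (i : Nat) : List Nat → Nat
  | [] => 0
  | t :: l => Nat.add (cond (Nat.beq (Nat.div t 19683) i) 1 0) (cnt i l)

/-- the counts -/
def cnts (l : List Nat) : List Nat :=
  [cnt 0 l, cnt 1 l, cnt 2 l, cnt 3 l, cnt 4 l, cnt 5 l, cnt 6 l, cnt 7 l, cnt 8 l, cnt 9 l, cnt 10 l, cnt 11 l]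

/-- the classes are less than twelve -/
def small : List Nat → Bool
  | [] => true
  | t :: l => and (Nat.blt (Nat.div t 19683) 12) (small l)

/-- the involutions -/
def K : List Nat :=
  [900, 1170, 1440, 1638, 1935, 2151, 2432, 2444, 2456, 3090, 3188, 3562, 3831, 3944, 4252, 4862, 4877, 4883,
    5280, 5476, 5645, 6015, 6226, 6347, 6725, 6734, 6743, 6968, 6977, 6986, 7211, 7220, 7229, 7454, 7751,
    7967, 8183, 8453, 8723, 8912, 8927, 8933, 9641, 9876, 10006, 10370, 10572, 10768, 11099, 11111, 11123,
    11828, 11974, 12282, 12557, 12688, 13026, 13152, 13182, 13205, 13208, 13211, 13232, 13259, 13285,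
    13288, 13291, 13294, 13297, 13300, 13303, 13306, 13309, 13312, 13339, 13404, 13443, 13448, 13463,
    13469, 13475, 13502, 13573, 13591, 13656, 13677, 13691, 13703, 13715, 13718, 13745, 13807, 13843,
    14014, 14041, 14068, 14743, 14770, 14797, 15392, 15395, 15398, 16068, 16175, 16207, 16827, 16877,
    16933, 17579, 17582, 17585, 18285, 18335, 18391, 18984, 19091, 19123]

/-- the classes of the products of the representative 0 with the involutions -/
def D0 : List Nat :=
  [22849, 22876, 22903, 23090, 23117, 23144, 22806, 22807, 22808, 22867, 22893, 22922, 23108, 23133, 23161,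
    22743, 22744, 22745, 22858, 22886, 22911, 23099, 23125, 23151, 20511, 20513, 20512, 20565, 20567,
    20566, 20538, 20540, 20539, 22845, 22899, 22872, 23091, 23145, 23118, 22698, 22700, 22699, 22863,
    22918, 22892, 23109, 23165, 23137, 22770, 22772, 22771, 22854, 22910, 22882, 23100, 23155, 23129,
    22159, 22177, 21906, 21908, 21907, 22149, 22185, 22115, 22124, 22133, 22118, 22127, 22136, 22121,
    22130, 22139, 22142, 22169, 22165, 22180, 21987, 21988, 21989, 22155, 22188, 22148, 22172, 22162,
    22183, 22068, 22070, 22069, 22152, 22191, 22145, 22175, 22844, 22871, 22898, 23086, 23140, 23113,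
    22671, 22672, 22673, 22888, 22914, 22862, 23132, 23157, 23104, 22635, 22637, 22636, 22906, 22878,
    22853, 23150, 23121, 23095]

/-- the classes of the products of the representative 1 with the involutions -/
def D1 : List Nat :=
  [80955, 81036, 81117, 80991, 81072, 81153, 22743, 106008, 106707, 82413, 102186, 61032, 81720, 101475,
    60087, 22806, 106980, 106221, 81684, 60315, 101538, 82449, 60828, 102285, 21906, 105033, 105009, 22068,
    105519, 105495, 21987, 105276, 105252, 100674, 100836, 100755, 100638, 100800, 100719, 22635, 106491,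
    105738, 102132, 82602, 61059, 101367, 81855, 60060, 22671, 105762, 106467, 101403, 60342, 81792,
    102096, 60801, 82503, 79800, 79560, 20511, 99390, 100122, 99243, 99963, 828, 46009, 52571, 42040,
    46495, 53057, 41798, 46252, 52814, 45960, 52518, 79854, 79614, 20538, 100176, 99417, 99270, 100017,
    65661, 72249, 79827, 79587, 20565, 99444, 100149, 99297, 99990, 65676, 72210, 40587, 40614, 40641,
    40341, 40395, 40368, 22770, 106197, 106923, 82467, 102240, 61005, 81747, 101502, 60033, 22698, 105951,
    106683, 81819, 101430, 60288, 82557, 102150, 60774]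

/-- the classes of the products of the representative 2 with the involutions -/
def D2 : List Nat :=
  [102563, 121834, 140876, 102325, 140800, 121925, 106223, 106221, 106222, 102572, 121840, 140870, 102307,
    140803, 121931, 106009, 106010, 106008, 102554, 121837, 140873, 102316, 140797, 121928, 100122, 100123,
    100124, 100151, 100149, 100150, 100177, 100178, 100176, 102558, 140872, 121841, 102327, 121927, 140804,
    106683, 106684, 106685, 102567, 140875, 121838, 102309, 121924, 140798, 106923, 106924, 106925, 102549,
    140869, 121835, 102318, 121930, 140801, 119082, 138612, 21908, 21907, 21906, 119073, 138615, 22133,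
    22115, 22124, 22136, 22118, 22127, 22139, 22121, 22130, 119091, 138609, 119084, 138613, 105254, 105252,
    105253, 119075, 138616, 119093, 138610, 119083, 138614, 105520, 105521, 105519, 119074, 138617, 119092,
    138611, 102556, 121836, 140868, 102323, 121929, 140796, 22672, 22673, 22671, 121833, 140871, 102565,
    140799, 121926, 102305, 22637, 22636, 22635, 140874, 121839, 102547, 121923, 140802, 102314]

/-- the classes of the products of the representative 3 with the involutions -/
def D3 : List Nat :=
  [158634, 198565, 82775, 217561, 178977, 61213, 120554, 120548, 120551, 198611, 82631, 158601, 61202, 217489,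
    178935, 140557, 140560, 140554, 82815, 158678, 198547, 178993, 61171, 217524, 100150, 100151, 100149,
    100176, 100177, 100178, 100124, 100122, 100123, 158636, 82779, 198566, 217562, 61212, 178979, 120701,
    120707, 120704, 198609, 158603, 82635, 61201, 178937, 217490, 140626, 140632, 140629, 82813, 198548,
    158677, 178992, 217525, 61170, 119138, 138614, 105497, 105521, 22068, 119102, 138643, 105161, 105140,
    105155, 105143, 105149, 105164, 105152, 105158, 105146, 119092, 138665, 119137, 138612, 105034, 105009,
    21907, 119101, 138644, 119091, 138663, 119136, 138613, 21989, 105253, 105276, 119100, 138642, 119093,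
    138664, 158635, 198564, 82777, 217560, 61214, 178978, 120614, 120617, 120611, 82633, 158602, 198610,
    217488, 178936, 61200, 140461, 140458, 140455, 198546, 158676, 82811, 217526, 61172, 178994]

/-- the classes of the products of the representative 4 with the involutions -/
def D4 : List Nat :=
  [60010, 178588, 218064, 60631, 178966, 217416, 20511, 99392, 100124, 218443, 105876, 158522, 217849, 106614,
    159575, 21906, 105035, 105011, 178292, 198583, 100917, 179183, 198124, 100881, 22743, 106708, 106009,
    120853, 120877, 120865, 140455, 140470, 140476, 101961, 122311, 140482, 102672, 121582, 140509, 140536,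
    140539, 140542, 142048, 61394, 158662, 141292, 63635, 159526, 120772, 120781, 120790, 121528, 198134,
    60122, 122284, 198701, 61175, 60214, 61132, 22806, 106981, 106222, 102024, 102771, 81164, 81176, 81188,
    81185, 81170, 81173, 81179, 81182, 81167, 81920, 82676, 178169, 179168, 120692, 120698, 120695, 121475,
    122177, 159109, 158299, 218316, 217911, 140213, 140222, 140231, 141698, 140996, 197926, 199006, 81947,
    82622, 81191, 82649, 81218, 81893, 140375, 140399, 140387, 218479, 141833, 197765, 217507, 141104,
    198440, 120530, 120545, 120551, 178815, 120557, 159191, 178032, 120584, 158705]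

/-- the classes of the products of the representative 5 with the involutions -/
def D5 : List Nat :=
  [81279, 81360, 81198, 81315, 81396, 81234, 120772, 120781, 120790, 158561, 122257, 178820, 159641, 121555,
    178037, 140375, 140393, 140384, 198173, 218088, 141833, 198767, 217467, 141104, 21987, 105276, 105252,
    21906, 105033, 105009, 22068, 105519, 105495, 100998, 100917, 101079, 100962, 100881, 101043, 120934,
    120952, 120943, 122446, 158534, 178847, 121690, 159587, 178010, 140213, 140222, 140231, 141725, 218061,
    198200, 140969, 217413, 198740, 79828, 79589, 20538, 99419, 100178, 99270, 100017, 41625, 65774, 72254,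
    41626, 65777, 72260, 41627, 65780, 72257, 45978, 52536, 79801, 79562, 20565, 100151, 99446, 99297,
    99990, 65652, 72240, 79855, 79616, 20511, 99392, 100124, 99243, 99963, 65667, 72201, 61470, 61308,
    61389, 63549, 63630, 63468, 120853, 120862, 120871, 158588, 122311, 178793, 159614, 121582, 177983,
    140294, 140303, 140312, 198146, 141779, 218115, 198713, 141077, 217440]

/-- the classes of the products of the representative 6 with the involutions -/
def D6 : List Nat :=
  [122117, 178966, 158739, 121409, 178588, 159198, 40194, 61487, 63917, 178701, 61173, 217828, 178053, 60120,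
    218395, 101089, 101095, 101092, 158917, 217508, 102601, 159295, 218480, 101845, 101251, 101266, 101272,
    40293, 63829, 61804, 81164, 81179, 81185, 101278, 60651, 81893, 101305, 59976, 82622, 41589, 65698,
    72340, 61353, 122416, 198123, 63648, 121675, 198582, 81568, 81580, 81592, 81622, 198380, 159525, 81595,
    197732, 158661, 158365, 159013, 40248, 63995, 61646, 60957, 60417, 140455, 140458, 140461, 140476,
    140479, 140473, 140470, 140464, 140467, 141211, 141967, 122374, 121627, 81406, 81409, 81412, 82891,
    82189, 217586, 218639, 178891, 178432, 100928, 100940, 100952, 102413, 101711, 198648, 198270, 141940,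
    140509, 141184, 141238, 141913, 140482, 81326, 81335, 81344, 120590, 82838, 218181, 120560, 82082,
    217398, 105140, 105161, 105155, 179210, 106598, 198043, 178346, 105869, 198907]

/-- the classes of the products of the representative 7 with the involutions -/
def D7 : List Nat :=
  [141310, 217470, 198841, 142057, 218091, 197842, 41625, 72257, 65777, 217849, 63468, 178245, 218443, 61308,
    179325, 105058, 105070, 105082, 198437, 178003, 105787, 197762, 178840, 106516, 101170, 101185, 101191,
    40266, 63667, 61723, 81326, 81341, 81347, 102655, 60435, 81380, 101953, 60840, 81353, 40320, 61891,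
    63754, 60624, 140273, 159617, 60003, 140243, 158591, 81164, 81167, 81170, 82649, 158806, 198740, 81947,
    159400, 198200, 198673, 198241, 40221, 61568, 64079, 60984, 60390, 120772, 120787, 120793, 120784,
    120790, 120778, 120796, 120775, 120781, 122230, 121501, 141358, 142099, 81568, 81577, 81586, 83080,
    82324, 178926, 178413, 217635, 218661, 100847, 100853, 100850, 102359, 101603, 158424, 159045, 122284,
    121555, 120826, 121528, 120799, 122257, 81406, 81418, 81430, 141092, 82864, 179197, 141800, 82135,
    178306, 101009, 101021, 101033, 218231, 101036, 158695, 217745, 101063, 159181]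

/-- a subgroup of order 4 -/
def G0 : List Nat :=
  [2432, 6643, 9876, 10572]

/-- the classes of the elements of `G0` -/
def E0 : List Nat :=
  [22806, 828, 22918, 23165]

/-- a subgroup of order 6 -/
def G1 : List Nat :=
  [1440, 2122, 6643, 11828, 13469, 17136]

/-- the classes of the elements of `G1` -/
def E1 : List Nat :=
  [22903, 61213, 828, 22854, 21989, 60476]

/-- a subgroup of order 6 -/
def G2 : List Nat :=
  [6643, 7017, 7115, 13182, 13469, 13807]

/-- the classes of the elements of `G2` -/
def E2 : List Nat :=
  [828, 52529, 45980, 22177, 21989, 22145]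

/-- a subgroup of order 8 -/
def G3 : List Nat :=
  [1170, 1368, 1845, 2151, 6643, 6725, 13232, 13339]

/-- the classes of the elements of `G3` -/
def E3 : List Nat :=
  [22876, 81477, 81198, 23144, 828, 20511, 22149, 22169]

/-- a subgroup of order 12 -/
def G4 : List Nat :=
  [6643, 6848, 7284, 10370, 10572, 10768, 13152, 13591, 13715, 18285, 18643, 18839]

/-- the classes of the elements of `G4` -/
def E4 : List Nat :=
  [828, 52528, 45979, 23109, 23165, 23137, 22159, 22172, 22069, 22906, 106547, 105928]

/-- a subgroup of order 16 -/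
def G5 : List Nat :=
  [2885, 3175, 4936, 6173, 6643, 7602, 8689, 8912, 9986, 10572, 13656, 14245, 14797, 18219, 18335, 19241]

/-- the classes of the elements of `G5` -/
def E5 : List Nat :=
  [82935, 81927, 142068, 121293, 828, 83103, 82011, 22698, 122385, 23165, 22162, 140976, 23113, 82095, 22878,
    83019]

/-- a subgroup of order 27 -/
def G6 : List Nat :=
  [1331, 1337, 1343, 2836, 2851, 2857, 6375, 6381, 6396, 6643, 6658, 6664, 10425, 10431, 10446, 11699, 11705,
    11711, 14961, 14967, 14982, 16478, 16484, 16490, 17740, 17755, 17761]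

/-- the classes of the elements of `G6` -/
def E6 : List Nat :=
  [60812, 60052, 40369, 40221, 40223, 40222, 61061, 60307, 40624, 828, 53057, 46252, 40633, 61070, 60316,
    40378, 60821, 60061, 60298, 40615, 61052, 60070, 40387, 60830, 40293, 40294, 40295]

/-- a subgroup of order 13 -/
def G7 : List Nat :=
  [6643, 15345, 11928, 4228, 14288, 17650, 12930, 10871, 9950, 3307, 7645, 2305, 1002]

/-- the classes of the elements of `G7` -/
def E7 : List Nat :=
  [828, 158466, 178149, 158576, 197832, 178339, 178259, 217515, 217625, 158656, 198022, 217705, 197942]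

/-- the centralizer of the representative 1 -/
def Z1 : List Nat :=
  [2432, 2513, 2594, 2674, 2755, 2836, 4618, 4699, 4780, 4862, 4943, 5024, 6643, 6725, 6886, 6968, 7129, 7211,
    8830, 8912, 8993, 9154, 9235, 9317, 11017, 11099, 11179, 11261, 11423, 11584, 13205, 13285, 13448,
    13528, 13691, 13771, 15392, 15472, 15554, 15634, 15796, 15959, 17579, 17659, 17740, 17903, 17984, 18064]

/-- the centralizer of the representative 2 -/
def Z2 : List Nat :=
  [6643, 6646, 6649, 6652, 6655, 6658, 6661, 6664, 6667, 6725, 6728, 6731, 6734, 6737, 6740, 6743, 6746, 6749,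
    8830, 8833, 8836, 8839, 8842, 8845, 8848, 8851, 8854, 8912, 8915, 8918, 8921, 8924, 8927, 8930, 8933,
    8936, 11017, 11020, 11023, 11026, 11029, 11032, 11035, 11038, 11041, 11099, 11102, 11105, 11108, 11111,
    11114, 11117, 11120, 11123]

/-- the centralizer of the representative 3 -/
def Z3 : List Nat :=
  [6643, 6652, 6661, 6889, 6898, 6907, 7135, 7144, 7153]

/-- the centralizer of the representative 4 -/
def Z4 : List Nat :=
  [2674, 4618, 6643, 9317, 11261, 13285, 15959, 17903]

/-- the centralizer of the representative 5 -/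
def Z5 : List Nat :=
  [6643, 6886, 7129, 13285, 13528, 13771]

/-- the centralizer of the representative 6 -/
def Z6 : List Nat :=
  [2594, 4943, 6643, 8993, 11584, 13285, 15634, 17984]

/-- all elements are involutions -/
def sq1 : List Nat → Bool
  | [] => true
  | a :: l => and (and (Nat.beq (mulC a a) 6643) (not (Nat.beq a 6643))) (sq1 l)

/-- a matrix with square `1` -/
def pK (x0 x1 x2 x3 x4 x5 x6 x7 x8 : Nat) : Bool :=
  or (not (and (Nat.beq (e3 x0 x1 x2 x0 x3 x6) 1) (and (Nat.beq (e3 x0 x1 x2 x1 x4 x7) 0)
    (and (Nat.beq (e3 x0 x1 x2 x2 x5 x8) 0) (and (Nat.beq (e3 x3 x4 x5 x0 x3 x6) 0)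
    (and (Nat.beq (e3 x3 x4 x5 x1 x4 x7) 1) (and (Nat.beq (e3 x3 x4 x5 x2 x5 x8) 0)
    (and (Nat.beq (e3 x6 x7 x8 x0 x3 x6) 0) (and (Nat.beq (e3 x6 x7 x8 x1 x4 x7) 0)
    (Nat.beq (e3 x6 x7 x8 x2 x5 x8) 1))))))))))
  (or (not (Nat.beq (detD x0 x1 x2 x3 x4 x5 x6 x7 x8) 1)) (memb (mk x0 x1 x2 x3 x4 x5 x6 x7 x8) (6643 :: K)))

/-- a matrix commuting with `r` -/
def pZ (r0 r1 r2 r3 r4 r5 r6 r7 r8 : Nat) (l : List Nat) (x0 x1 x2 x3 x4 x5 x6 x7 x8 : Nat) : Bool :=
  or (not (and (Nat.beq (e3 x0 x1 x2 r0 r3 r6) (e3 r0 r1 r2 x0 x3 x6))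
    (and (Nat.beq (e3 x0 x1 x2 r1 r4 r7) (e3 r0 r1 r2 x1 x4 x7))
    (and (Nat.beq (e3 x0 x1 x2 r2 r5 r8) (e3 r0 r1 r2 x2 x5 x8))
    (and (Nat.beq (e3 x3 x4 x5 r0 r3 r6) (e3 r3 r4 r5 x0 x3 x6))
    (and (Nat.beq (e3 x3 x4 x5 r1 r4 r7) (e3 r3 r4 r5 x1 x4 x7))
    (and (Nat.beq (e3 x3 x4 x5 r2 r5 r8) (e3 r3 r4 r5 x2 x5 x8))
    (and (Nat.beq (e3 x6 x7 x8 r0 r3 r6) (e3 r6 r7 r8 x0 x3 x6))
    (and (Nat.beq (e3 x6 x7 x8 r1 r4 r7) (e3 r6 r7 r8 x1 x4 x7))
    (Nat.beq (e3 x6 x7 x8 r2 r5 r8) (e3 r6 r7 r8 x2 x5 x8)))))))))))
  (or (not (Nat.beq (detD x0 x1 x2 x3 x4 x5 x6 x7 x8) 1)) (memb (mk x0 x1 x2 x3 x4 x5 x6 x7 x8) l))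

theorem hK : all9 pK = true := by decide +kernel
theorem validK : valid K = true := by decide +kernel
theorem sqK : sq1 K = true := by decide +kernel
theorem ok0 : and (okL (rp 0) K D0) (small D0) = true := by decide +kernel
theorem cn0 : cnts D0 = [0, 117, 0, 0, 0, 0, 0, 0, 0, 0, 0, 0] := by decide +kernel
theorem ok1 : and (okL (rp 1) K D1) (small D1) = true := by decide +kernel
theorem cn1 : cnts D1 = [1, 12, 16, 16, 24, 48, 0, 0, 0, 0, 0, 0] := by decide +kernel
theorem ok2 : and (okL (rp 2) K D2) (small D2) = true := by decide +kernel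
theorem cn2 : cnts D2 = [0, 18, 0, 0, 0, 45, 27, 27, 0, 0, 0, 0] := by decide +kernel
theorem ok3 : and (okL (rp 3) K D3) (small D3) = true := by decide +kernel
theorem cn3 : cnts D3 = [0, 3, 0, 9, 9, 24, 18, 18, 9, 9, 9, 9] := by decide +kernel
theorem ok4 : and (okL (rp 4) K D4) (small D4) = true := by decide +kernel
theorem cn4 : cnts D4 = [0, 4, 0, 8, 17, 16, 20, 20, 8, 8, 8, 8] := by decide +kernel
theorem ok5 : and (okL (rp 5) K D5) (small D5) = true := by decide +kernel
theorem cn5 : cnts D5 = [0, 6, 5, 16, 12, 24, 15, 15, 6, 6, 6, 6] := by decide +kernel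
theorem ok6 : and (okL (rp 6) K D6) (small D6) = true := by decide +kernel
theorem cn6 : cnts D6 = [0, 0, 4, 16, 20, 20, 8, 17, 8, 8, 8, 8] := by decide +kernel
theorem ok7 : and (okL (rp 7) K D7) (small D7) = true := by decide +kernel
theorem cn7 : cnts D7 = [0, 0, 4, 16, 20, 20, 17, 8, 8, 8, 8, 8] := by decide +kernel
theorem g0 : and (valid G0) (and (clos G0 G0) (and (okL 6643 G0 E0) (small E0))) = true := by decide +kernel
theorem c0 : cnts E0 = [1, 3, 0, 0, 0, 0, 0, 0, 0, 0, 0, 0] := by decide +kernel
theorem g1 : and (valid G1) (and (clos G1 G1) (and (okL 6643 G1 E1) (small E1))) = true := by decide +kernel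
theorem c1 : cnts E1 = [1, 3, 0, 2, 0, 0, 0, 0, 0, 0, 0, 0] := by decide +kernel
theorem g2 : and (valid G2) (and (clos G2 G2) (and (okL 6643 G2 E2) (small E2))) = true := by decide +kernel
theorem c2 : cnts E2 = [1, 3, 2, 0, 0, 0, 0, 0, 0, 0, 0, 0] := by decide +kernel
theorem g3 : and (valid G3) (and (clos G3 G3) (and (okL 6643 G3 E3) (small E3))) = true := by decide +kernel
theorem c3 : cnts E3 = [1, 5, 0, 0, 2, 0, 0, 0, 0, 0, 0, 0] := by decide +kernel
theorem g4 : and (valid G4) (and (clos G4 G4) (and (okL 6643 G4 E4) (small E4))) = true := by decide +kernel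
theorem c4 : cnts E4 = [1, 7, 2, 0, 0, 2, 0, 0, 0, 0, 0, 0] := by decide +kernel
theorem g5 : and (valid G5) (and (clos G5 G5) (and (okL 6643 G5 E5) (small E5))) = true := by decide +kernel
theorem c5 : cnts E5 = [1, 5, 0, 0, 6, 0, 2, 2, 0, 0, 0, 0] := by decide +kernel
theorem g6 : and (valid G6) (and (clos G6 G6) (and (okL 6643 G6 E6) (small E6))) = true := by decide +kernel
theorem c6 : cnts E6 = [1, 0, 14, 12, 0, 0, 0, 0, 0, 0, 0, 0] := by decide +kernel
theorem g7 : and (valid G7) (and (clos G7 G7) (and (okL 6643 G7 E7) (small E7))) = true := by decide +kernel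
theorem c7 : cnts E7 = [1, 0, 0, 0, 0, 0, 0, 0, 3, 3, 3, 3] := by decide +kernel
theorem z1 : all9 (pZ 1 0 0 0 2 0 0 0 2 Z1) = true := by decide +kernel
theorem z2 : all9 (pZ 1 1 0 0 1 0 0 0 1 Z2) = true := by decide +kernel
theorem z3 : all9 (pZ 1 1 0 0 1 1 0 0 1 Z3) = true := by decide +kernel
theorem z4 : all9 (pZ 1 0 0 0 0 2 0 1 0 Z4) = true := by decide +kernel
theorem z5 : all9 (pZ 1 0 0 0 2 1 0 0 2 Z5) = true := by decide +kernel
theorem z6 : all9 (pZ 2 0 0 0 0 1 0 1 1 Z6) = true := by decide +kernel

end Cfsg.Agent.H599.M23.Data3
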