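import Cfsg.Agent.H599.M23.Spec3

/-!
# Involutions, centralizers and elements of order 13 in `SL₃(3)`
-/

set_option autoImplicit false

open scoped BigOperators

namespace Cfsg.Agent.H599.M23.Inv3

open Code3 Data3 Spec3

attribute [local irreducible] mulC detC mk e3 detD dg rp

/-! ### Involutions -/

theorem e3_val (a b c d e f : ZMod 3) : e3 a.val b.val c.val d.val e.val f.val = (a * d + b * e + c * f).val := by
  have h1 := cast_e3 a.val b.val c.val d.val e.val f.val
  simp only [ZMod.natCast_zmod_val] at h1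
  rw [← h1, ZMod.val_natCast, Nat.mod_eq_of_lt (e3_lt _ _ _ _ _ _)]

theorem entry (g h : S) (i j : Fin 3) :
    (g * h).1 i j = g.1 i 0 * h.1 0 j + g.1 i 1 * h.1 1 j + g.1 i 2 * h.1 2 j := by
  show (g.1 * h.1) i j = _
  rw [Matrix.mul_apply, Fin.sum_univ_three]

theorem detD_val (g : S) : detD (g.1 0 0).val (g.1 0 1).val (g.1 0 2).val (g.1 1 0).val (g.1 1 1).val (g.1 1 2).val
    (g.1 2 0).val (g.1 2 1).val (g.1 2 2).val = 1 := by
  have h1 := detD_cast (g.1 0 0).val (g.1 0 1).val (g.1 0 2).val (g.1 1 0).val (g.1 1 1).val (g.1 1 2).val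
    (g.1 2 0).val (g.1 2 1).val (g.1 2 2).val
  simp only [ZMod.natCast_zmod_val] at h1
  have h2 : (!![g.1 0 0, g.1 0 1, g.1 0 2; g.1 1 0, g.1 1 1, g.1 1 2; g.1 2 0, g.1 2 1, g.1 2 2]) = g.1 := by
    ext i j; fin_cases i <;> fin_cases j <;> rfl
  rw [h2, g.2] at h1
  have h3 : detD (g.1 0 0).val (g.1 0 1).val (g.1 0 2).val (g.1 1 0).val (g.1 1 1).val (g.1 1 2).val
    (g.1 2 0).val (g.1 2 1).val (g.1 2 2).val < 3 := by
    unfold detD; exact Nat.mod_lt _ (by norm_num)
  have h4 := congrArg ZMod.val h1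
  rw [ZMod.val_natCast, Nat.mod_eq_of_lt h3] at h4
  rw [h4]; rfl

theorem mk_val (g : S) : mk (g.1 0 0).val (g.1 0 1).val (g.1 0 2).val (g.1 1 0).val (g.1 1 1).val (g.1 1 2).val
    (g.1 2 0).val (g.1 2 1).val (g.1 2 2).val = cd g := by
  unfold cd cdM; rfl

theorem mem_K_of_sq {g : S} (h : g * g = 1) (h1 : g ≠ 1) : cd g ∈ K := by
  have hp := all9_cd hK g
  unfold pK at hp
  simp only [e3_val, ← entry, detD_val, mk_val, h] at hp
  have hh : memb (cd g) (6643 :: K) = true := by
    revert hp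
    generalize memb (cd g) (6643 :: K) = b
    intro hp
    cases b with
    | true => rfl
    | false => exact absurd hp (by decide)
  rw [memb_iff, List.mem_cons] at hh
  rcases hh with hh | hh
  · exfalso; apply h1; apply cd_inj; rw [cd_one]; exact hh
  · exact hh

theorem sq1_spec {l : List Nat} (h : sq1 l = true) : ∀ c ∈ l, mulC c c = 6643 ∧ c ≠ 6643 := by
  induction l with
  | nil => simp
  | cons a l ih =>
    simp only [sq1, Bool.and_eq_true, beq_iff, Bool.not_eq_true'] at h
    intro c hc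
    rw [List.mem_cons] at hc
    rcases hc with rfl | hc
    · refine ⟨h.1.1, ?_⟩
      intro e
      have h2 := h.1.2
      rw [← beq_iff] at e
      rw [e] at h2
      exact Bool.noConfusion h2
    · exact ih h.2 c hc

theorem orderOf_two_iff {g : S} : orderOf g = 2 ↔ cd g ∈ K := by
  constructor
  · intro h
    apply mem_K_of_sq
    · rw [← pow_two, ← h, pow_orderOf_eq_one]
    · rintro rfl
      rw [orderOf_one] at h
      omega
  · intro h
    obtain ⟨h1, h2⟩ := sq1_spec sqK _ h
    apply orderOf_eq_prime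
    · apply cd_inj
      rw [pow_two, cd_mul, cd_one]; exact h1
    · rintro rfl
      exact h2 cd_one

variable {f : S → ℂ}

/-- the sum over the involutions -/
theorem sum_inv (hf : ∀ x y, f (x * y * x⁻¹) = f y) {y : S} {r : Nat} (hy : cd y = r) {ts c : List Nat}
    (h : and (okL r K ts) (small ts) = true) (hc : cnts ts = c) :
    ∑ k : S with orderOf k = 2, f (y * k) = W f c := by
  classical
  simp only [Bool.and_eq_true] at h
  obtain ⟨v1, v2⟩ := valid_spec validK
  have hdy : detC r = 1 := by rw [← hy]; exact detC_cd y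
  have h1 : (∑ k : S with orderOf k = 2, f (y * k)) = ∑ k : S with cd k ∈ K, f (y * k) := by
    refine Finset.sum_congr ?_ fun _ _ => rfl
    ext k
    simp only [Finset.mem_filter, Finset.mem_univ, true_and]
    exact orderOf_two_iff
  rw [h1, sum_list v1 v2 (fun k => f (y * k)), ← sum_items h.2 hc,
    ← okL_map hf hdy (fun c hc => (v2 c hc).2) h.1]
  refine congrArg List.sum (List.map_congr_left fun c hc => ?_)
  obtain ⟨w1, w2⟩ := v2 c hc
  rw [ev_el _ w2]
  rw [← ev_cd f, cd_mul, cd_el w2 w1, hy]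

/-! ### Centralizers -/

theorem cent_le {x : S} {r0 r1 r2 r3 r4 r5 r6 r7 r8 : Nat} {l : List Nat}
    (h0 : (x.1 0 0).val = r0) (h1 : (x.1 0 1).val = r1) (h2 : (x.1 0 2).val = r2)
    (h3 : (x.1 1 0).val = r3) (h4 : (x.1 1 1).val = r4) (h5 : (x.1 1 2).val = r5)
    (h6 : (x.1 2 0).val = r6) (h7 : (x.1 2 1).val = r7) (h8 : (x.1 2 2).val = r8)
    (h : all9 (pZ r0 r1 r2 r3 r4 r5 r6 r7 r8 l) = true) :
    Nat.card (Subgroup.centralizer {x}) ≤ l.length := by
  classical
  have key : ∀ g : S, g * x = x * g → cd g ∈ l := by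
    intro g hg
    have hp := all9_cd h g
    unfold pZ at hp
    simp only [← h0, ← h1, ← h2, ← h3, ← h4, ← h5, ← h6, ← h7, ← h8, e3_val, ← entry, detD_val, mk_val, hg,
      Nat.beq_refl] at hp
    rw [← memb_iff]
    revert hp
    generalize memb (cd g) l = b
    intro hp
    cases b with
    | true => rfl
    | false => exact absurd hp (by decide)
  rw [Nat.card_eq_fintype_card]
  refine (Fintype.card_le_of_injective (fun g : Subgroup.centralizer {x} => (⟨cd g.1, ?_⟩ : l.toFinset)) ?_).trans ?_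
  · rw [List.mem_toFinset]
    apply key
    exact ((Subgroup.mem_centralizer_iff.mp g.2) x (Set.mem_singleton x)).symm
  · intro a b e
    exact Subtype.ext (cd_inj (Subtype.mk.inj e))
  · rw [Fintype.card_coe]
    exact List.toFinset_card_le l

theorem card_S : Nat.card S = 5616 := by
  have h : Nat.card S * (Fintype.card (ZMod 3) - 1) = _ :=
    Cfsg.Agent.ClassicalGeometry.PSL2Basic.card_SL_mul (Fin 3) (ZMod 3)
  rw [Matrix.card_GL_field, Fin.prod_univ_three, ZMod.card] at h
  have h2 : (3 ^ 3 - 3 ^ ((0 : Fin 3) : ℕ)) * (3 ^ 3 - 3 ^ ((1 : Fin 3) : ℕ)) * (3 ^ 3 - 3 ^ ((2 : Fin 3) : ℕ)) =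
    11232 := by decide
  rw [h2] at h
  omega

/-! ### Powers -/

/-- the powers of a code -/
def powC (c : Nat) : Nat → Nat
  | 0 => 6643
  | n + 1 => mulC (powC c n) c

theorem cd_pow (g : S) (n : ℕ) : cd (g ^ n) = powC (cd g) n := by
  induction n with
  | zero => rw [pow_zero, cd_one]; rfl
  | succ n ih => rw [pow_succ, cd_mul, ih]; rfl

/-- `powC c n = 1` and not before -/
def ordC (c n : Nat) : Bool := and (Nat.beq (powC c n) 6643) (decide (∀ m < n, 0 < m → powC c m ≠ 6643))

theorem orderOf_of {g : S} {c n : Nat} (hg : cd g = c) (hn : 0 < n) (h : ordC c n = true) : orderOf g = n := by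
  simp only [ordC, Bool.and_eq_true, beq_iff, decide_eq_true_eq] at h
  rw [orderOf_eq_iff hn]
  constructor
  · apply cd_inj
    rw [cd_pow, hg, cd_one]; exact h.1
  · intro m hm hm0 e
    apply h.2 m hm hm0
    rw [← hg, ← cd_pow, e, cd_one]

/-- the representative -/
def xr (i : Nat) : S := if h : detC (rp i) = 1 then el (rp i) h else 1

theorem rp_ok : ∀ i < 12, detC (rp i) = 1 ∧ rp i < 19683 := by decide +kernel

theorem cd_xr {i : Nat} (hi : i < 12) : cd (xr i) = rp i := by
  obtain ⟨h1, h2⟩ := rp_ok i hi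
  unfold xr
  rw [dif_pos h1]
  exact cd_el h1 h2

theorem Fv_eq {i : Nat} (hi : i < 12) : Fv f i = f (xr i) := by
  unfold Fv
  rw [← cd_xr hi, ev_cd]

theorem order_xr : orderOf (xr 0) = 1 ∧ orderOf (xr 1) = 2 ∧ orderOf (xr 2) = 3 ∧ orderOf (xr 3) = 3 ∧
    orderOf (xr 4) = 4 ∧ orderOf (xr 5) = 6 ∧ orderOf (xr 6) = 8 ∧ orderOf (xr 7) = 8 := by
  refine ⟨?_, ?_, ?_, ?_, ?_, ?_, ?_, ?_⟩
  · exact orderOf_of (cd_xr (by norm_num)) (by norm_num) (by decide +kernel)
  · exact orderOf_of (cd_xr (by norm_num)) (by norm_num) (by decide +kernel)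
  · exact orderOf_of (cd_xr (by norm_num)) (by norm_num) (by decide +kernel)
  · exact orderOf_of (cd_xr (by norm_num)) (by norm_num) (by decide +kernel)
  · exact orderOf_of (cd_xr (by norm_num)) (by norm_num) (by decide +kernel)
  · exact orderOf_of (cd_xr (by norm_num)) (by norm_num) (by decide +kernel)
  · exact orderOf_of (cd_xr (by norm_num)) (by norm_num) (by decide +kernel)
  · exact orderOf_of (cd_xr (by norm_num)) (by norm_num) (by decide +kernel)

theorem xr_zero : xr 0 = 1 := by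
  have := order_xr.1
  rwa [orderOf_eq_one_iff] at this

end Cfsg.Agent.H599.M23.Inv3
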