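import Cfsg.Agent.H599.M23.Norm3
import Cfsg.Agent.H924.M23.Facts

/-!
# Class functions of `L₃(3)` with integral averages over the subgroups of order prime to 13

Seven small subgroups of `SL₃(3)` (orders 4, 6, 6, 8, 12, 16, 27) generate the lattice of rational characters
vanishing on the 13-singular elements; so the values of a class function `f` on the 13-regular elements are given by
seven integers `a₁, a₂, a₃` (the multiplicities in the three projective characters of the principal 13-block) and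
`b₁, b₂, s, b₄` (in the characters of degrees 13, 26, 26 + 26, 39 of 13-defect zero).
-/

set_option autoImplicit false

open scoped BigOperators

namespace Cfsg.Agent.H599.M23.L33

open Code3 Data3 Spec3 Inv3 Norm3
open H924.M23 (N13)

attribute [local irreducible] mulC detC mk e3 detD dg rp

theorem int_of {n : ℤ} {x : ℂ} (hx : IsIntegral ℤ x) (h : (n : ℂ) = 13 * x) : (13 : ℤ) ∣ n := by
  have h1 : x = ((n / 13 : ℚ) : ℂ) := by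
    push_cast
    rw [h]; field_simp
  rw [h1] at hx
  have h2 : IsIntegral ℤ (n / 13 : ℚ) := by
    have := (isIntegral_algHom_iff (Algebra.ofId ℚ ℂ |>.restrictScalars ℤ) (RingHom.injective (algebraMap ℚ ℂ))
      (x := (n / 13 : ℚ))).mp
    exact this (by simpa using hx)
  obtain ⟨m, hm⟩ := IsIntegrallyClosed.isIntegral_iff.mp h2
  refine ⟨m, ?_⟩
  have h3 : (n : ℚ) = 13 * m := by
    have h4 : (m : ℚ) = n / 13 := by simpa using hm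
    rw [h4]; field_simp
  exact_mod_cast h3

theorem dvd_of {y : ℤ} (h : (13 : ℤ) ∣ 1296 * y) : (13 : ℤ) ∣ y := by omega

theorem W_eq (f : S → ℂ) (c0 c1 c2 c3 c4 c5 c6 c7 c8 c9 c10 c11 : Nat) :
    W f [c0, c1, c2, c3, c4, c5, c6, c7, c8, c9, c10, c11] = c0 * Fv f 0 + c1 * Fv f 1 + c2 * Fv f 2 + c3 * Fv f 3 +
      c4 * Fv f 4 + c5 * Fv f 5 + c6 * Fv f 6 + c7 * Fv f 7 + c8 * Fv f 8 + c9 * Fv f 9 + c10 * Fv f 10 +
      c11 * Fv f 11 := by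
  unfold W
  simp only [Finset.sum_range_succ, Finset.sum_range_zero, List.getD_cons_zero, List.getD_cons_succ, zero_add]

/-- all items in the class `i` -/
def allc (i : Nat) : List Nat → Bool
  | [] => true
  | t :: ts => and (Nat.beq (Nat.div t 19683) i) (allc i ts)

theorem okL_mem {f : S → ℂ} (hf : ∀ x y, f (x * y * x⁻¹) = f y) {y i : Nat} (hy : detC y = 1) :
    ∀ {cs ts : List Nat}, (∀ c ∈ cs, detC c = 1) → okL y cs ts = true → allc i ts = true →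
      ∀ c ∈ cs, ev f (mulC y c) = Fv f i := by
  intro cs
  induction cs with
  | nil => intro ts _ _ _ c hc; exact absurd hc (List.not_mem_nil)
  | cons c cs ih =>
    intro ts hc h ha d hd
    cases ts with
    | nil => rw [okL_cons_nil] at h; exact Bool.noConfusion h
    | cons t ts =>
      rw [okL_cons, Bool.and_eq_true] at h
      have ha' : Nat.beq (Nat.div t 19683) i = true ∧ allc i ts = true := by
        rw [← Bool.and_eq_true]; exact ha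
      rw [List.mem_cons] at hd
      rcases hd with rfl | hd
      · have e2 : ev f (mulC y d) = ev f (rp (Nat.div t 19683)) :=
          ev_chk hf (detC_mulC hy (hc d (List.mem_cons_self ..))) h.1
        rw [e2, beq_iff.mp ha'.1]; rfl
      · exact ih (fun d hd => hc d (List.mem_cons_of_mem _ hd)) h.2 ha'.2 d hd

/-- the equation of a subgroup -/
theorem eq_sub {f : S → ℂ} (hf : ∀ x y, f (x * y * x⁻¹) = f y)
    (hint : ∀ H : Subgroup S, ¬ 13 ∣ Nat.card H → ∃ m : ℤ, ∑ᶠ h : H, f h = m * Nat.card H)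
    {l ts c : List Nat} {h1 : 6643 ∈ l} (hl : ¬ 13 ∣ l.length)
    (h : and (valid l) (and (clos l l) (and (okL 6643 l ts) (small ts))) = true) (hc : cnts ts = c) :
    ∃ m : ℤ, W f c = m * l.length := by
  obtain ⟨H, h2, h3⟩ := sub_avg hf (h1 := h1) h hc
  obtain ⟨m, hm⟩ := hint H (by rw [h2]; exact hl)
  refine ⟨m, ?_⟩
  rw [← h3, hm, h2]

/-- the values on the 13-regular elements -/
structure Vals (f : S → ℂ) (a1 a2 a3 b1 b2 s b4 : ℤ) : Prop where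
  v0 : Fv f 0 = 1 * (a1 : ℂ) + 11 * (a2 : ℂ) + 16 * (a3 : ℂ) + 13 * (b1 : ℂ) + 26 * (b2 : ℂ) + 26 * (s : ℂ) + 39 * (b4 : ℂ)
  v1 : Fv f 1 = 1 * (a1 : ℂ) + 3 * (a2 : ℂ) + (-3) * (b1 : ℂ) + 2 * (b2 : ℂ) + (-2) * (s : ℂ) + (-1) * (b4 : ℂ)
  v2 : Fv f 2 = 1 * (a1 : ℂ) + 2 * (a2 : ℂ) + (-2) * (a3 : ℂ) + 4 * (b1 : ℂ) + (-1) * (b2 : ℂ) + (-1) * (s : ℂ) + 3 * (b4 : ℂ)
  v3 : Fv f 3 = 1 * (a1 : ℂ) + (-1) * (a2 : ℂ) + 1 * (a3 : ℂ) + 1 * (b1 : ℂ) + (-1) * (b2 : ℂ) + (-1) * (s : ℂ)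
  v4 : Fv f 4 = 1 * (a1 : ℂ) + (-1) * (a2 : ℂ) + 1 * (b1 : ℂ) + 2 * (b2 : ℂ) + (-1) * (b4 : ℂ)
  v5 : Fv f 5 = 1 * (a1 : ℂ) + (-1) * (b2 : ℂ) + 1 * (s : ℂ) + (-1) * (b4 : ℂ)
  v6 : Fv f 6 + Fv f 7 = 2 * (a1 : ℂ) + (-2) * (a2 : ℂ) + (-2) * (b1 : ℂ) + 2 * (b4 : ℂ)

theorem exists_vals {f : S → ℂ} (hf : ∀ x y, f (x * y * x⁻¹) = f y)
    (hint : ∀ H : Subgroup S, ¬ 13 ∣ Nat.card H → ∃ m : ℤ, ∑ᶠ h : H, f h = m * Nat.card H) :
    ∃ a1 a2 a3 b1 b2 s b4 : ℤ, Vals f a1 a2 a3 b1 b2 s b4 := by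
  obtain ⟨m0, E0⟩ := eq_sub hf hint (l := G0) (ts := E0) (h1 := by decide) (by decide) g0 c0
  obtain ⟨m1, E1⟩ := eq_sub hf hint (l := G1) (ts := E1) (h1 := by decide) (by decide) g1 c1
  obtain ⟨m2, E2⟩ := eq_sub hf hint (l := G2) (ts := E2) (h1 := by decide) (by decide) g2 c2
  obtain ⟨m3, E3⟩ := eq_sub hf hint (l := G3) (ts := E3) (h1 := by decide) (by decide) g3 c3
  obtain ⟨m4, E4⟩ := eq_sub hf hint (l := G4) (ts := E4) (h1 := by decide) (by decide) g4 c4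
  obtain ⟨m5, E5⟩ := eq_sub hf hint (l := G5) (ts := E5) (h1 := by decide) (by decide) g5 c5
  obtain ⟨m6, E6⟩ := eq_sub hf hint (l := G6) (ts := E6) (h1 := by decide) (by decide) g6 c6
  have L0 : (G0.length : ℂ) = 4 := by norm_num [G0]
  have L1 : (G1.length : ℂ) = 6 := by norm_num [G1]
  have L2 : (G2.length : ℂ) = 6 := by norm_num [G2]
  have L3 : (G3.length : ℂ) = 8 := by norm_num [G3]
  have L4 : (G4.length : ℂ) = 12 := by norm_num [G4]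
  have L5 : (G5.length : ℂ) = 16 := by norm_num [G5]
  have L6 : (G6.length : ℂ) = 27 := by norm_num [G6]
  rw [W_eq, L0] at E0
  rw [W_eq, L1] at E1
  rw [W_eq, L2] at E2
  rw [W_eq, L3] at E3
  rw [W_eq, L4] at E4
  rw [W_eq, L5] at E5
  rw [W_eq, L6] at E6
  norm_num only [Nat.cast_zero, Nat.cast_one, Nat.cast_ofNat, zero_mul, one_mul, add_zero] at E0 E1 E2 E3 E4 E5 E6
  refine ⟨7 * m0 + (-5) * m1 + (-7) * m2 + (-1) * m3 + 2 * m4 + 1 * m5 + 4 * m6,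
    5 * m0 + (-4) * m1 + (-5) * m2 + 1 * m3 + 1 * m4 + (-1) * m5 + 3 * m6,
    1 * m0 + (-2) * m2 + 1 * m3 + (-1) * m5 + 1 * m6,
    6 * m0 + (-5) * m1 + (-6) * m2 + 2 * m3 + (-1) * m5 + 4 * m6,
    (-2) * m0 + 1 * m1 + 2 * m2 + 1 * m3 + (-1) * m4 + (-1) * m6,
    13 * m0 + (-10) * m1 + (-12) * m2 + 2 * m4 + 7 * m6,
    (-10) * m0 + 8 * m1 + 10 * m2 + (-2) * m3 + (-1) * m4 + 1 * m5 + (-6) * m6, ?_⟩
  constructor
  · push_cast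
    linear_combination 13 * E0 + (-6) * E1 + (-7) * E2 + 1 * E6
  · push_cast
    linear_combination (-4) * E0 + 2 * E1 + (7 / 3) * E2 + (-1 / 3) * E6
  · push_cast
    linear_combination (-1 / 2) * E0 + (1 / 2) * E2
  · push_cast
    linear_combination (-1 / 2) * E0 + (1 / 2) * E1
  · push_cast
    linear_combination (7 / 2) * E0 + (-2) * E1 + (-7 / 3) * E2 + (1 / 2) * E3 + (1 / 3) * E6
  · push_cast
    linear_combination 8 * E0 + (-4) * E1 + (-31 / 6) * E2 + (1 / 2) * E4 + (2 / 3) * E6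
  · push_cast
    linear_combination (-7) * E0 + 4 * E1 + (14 / 3) * E2 + (-3 / 2) * E3 + (1 / 2) * E5 + (-2 / 3) * E6

set_option maxHeartbeats 1000000 in
theorem norm_vals {f : S → ℂ} (hf : ∀ x y, f (x * y * x⁻¹) = f y) {a1 a2 a3 b1 b2 s b4 : ℤ}
    (h : Vals f a1 a2 a3 b1 b2 s b4) :
    (N13 a1 a2 a3 : ℝ) / 13 + b1 ^ 2 + b2 ^ 2 + b4 ^ 2 + s ^ 2 / 2 ≤
      (∑ y : S with ¬ 13 ∣ orderOf y, ‖f y‖ ^ 2) / 5616 := by
  have hn := norm_ge hf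
  simp only [Finset.sum_range_succ, Finset.sum_range_zero, zero_add] at hn
  obtain ⟨v0, v1, v2, v3, v4, v5, v6⟩ := h
  rw [Fv_eq (by norm_num)] at v0 v1 v2 v3 v4 v5
  rw [Fv_eq (by norm_num), Fv_eq (by norm_num)] at v6
  have key : ∀ (n : ℤ), ‖(n : ℂ)‖ ^ 2 = (n : ℝ) ^ 2 := by
    intro n
    rw [Complex.norm_intCast, sq_abs]
  have n0 : ‖f (xr 0)‖ ^ 2 = ((1 * a1 + 11 * a2 + 16 * a3 + 13 * b1 + 26 * b2 + 26 * s + 39 * b4 : ℤ) : ℝ) ^ 2 := by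
    rw [← key, v0]; push_cast; rfl
  have n1 : ‖f (xr 1)‖ ^ 2 = ((1 * a1 + 3 * a2 + (-3) * b1 + 2 * b2 + (-2) * s + (-1) * b4 : ℤ) : ℝ) ^ 2 := by
    rw [← key, v1]; push_cast; rfl
  have n2 : ‖f (xr 2)‖ ^ 2 = ((1 * a1 + 2 * a2 + (-2) * a3 + 4 * b1 + (-1) * b2 + (-1) * s + 3 * b4 : ℤ) : ℝ) ^ 2 := by
    rw [← key, v2]; push_cast; rfl
  have n3 : ‖f (xr 3)‖ ^ 2 = ((1 * a1 + (-1) * a2 + 1 * a3 + 1 * b1 + (-1) * b2 + (-1) * s : ℤ) : ℝ) ^ 2 := by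
    rw [← key, v3]; push_cast; rfl
  have n4 : ‖f (xr 4)‖ ^ 2 = ((1 * a1 + (-1) * a2 + 1 * b1 + 2 * b2 + (-1) * b4 : ℤ) : ℝ) ^ 2 := by
    rw [← key, v4]; push_cast; rfl
  have n5 : ‖f (xr 5)‖ ^ 2 = ((1 * a1 + (-1) * b2 + 1 * s + (-1) * b4 : ℤ) : ℝ) ^ 2 := by
    rw [← key, v5]; push_cast; rfl
  have n6 : ((2 * a1 + (-2) * a2 + (-2) * b1 + 2 * b4 : ℤ) : ℝ) ^ 2 ≤ 2 * (‖f (xr 6)‖ ^ 2 + ‖f (xr 7)‖ ^ 2) := by
    rw [← key]
    have e : ((2 * a1 + (-2) * a2 + (-2) * b1 + 2 * b4 : ℤ) : ℂ) = f (xr 6) + f (xr 7) := by rw [v6]; push_cast; rfl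
    rw [e]
    have h1 := norm_add_le (f (xr 6)) (f (xr 7))
    have h2 : ‖f (xr 6) + f (xr 7)‖ ^ 2 ≤ (‖f (xr 6)‖ + ‖f (xr 7)‖) ^ 2 :=
      pow_le_pow_left₀ (norm_nonneg _) h1 2
    nlinarith [sq_nonneg (‖f (xr 6)‖ - ‖f (xr 7)‖)]
  rw [n0, n1, n2, n3, n4, n5] at hn
  have c0 : cz 0 = 5616 := rfl
  have c1 : cz 1 = 48 := rfl
  have c2 : cz 2 = 54 := rfl
  have c3 : cz 3 = 9 := rfl
  have c4 : cz 4 = 8 := rfl
  have c5 : cz 5 = 6 := rfl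
  have c6 : cz 6 = 8 := rfl
  have c7 : cz 7 = 8 := rfl
  rw [c0, c1, c2, c3, c4, c5, c6, c7] at hn
  rw [le_div_iff₀ (by norm_num)]
  refine le_trans ?_ hn
  unfold N13
  push_cast at n6 ⊢
  linarith [n6]

set_option maxHeartbeats 1000000 in
/-- the central character modulo 13 -/
theorem pure_vals {f : S → ℂ} (hf : ∀ x y, f (x * y * x⁻¹) = f y) {a1 a2 a3 b1 b2 s b4 : ℤ}
    (h : Vals f a1 a2 a3 b1 b2 s b4) {w : ℤ}
    (hw : ∀ y, ∃ c : ℂ, IsIntegral ℤ c ∧ ∑ k : S with orderOf k = 2, f (y * k) = w * f y + 13 * c)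
    (hz : ∃ z : S, orderOf z = 13 ∧ IsIntegral ℤ ((∑ j ∈ Finset.range 13, f (z ^ j)) / 13)) :
    (13 : ℤ) ∣ w * a1 ∧ (13 : ℤ) ∣ w * a2 ∧ (13 : ℤ) ∣ w * a3 ∧ (13 : ℤ) ∣ (w + 1) * b1 ∧
      (13 : ℤ) ∣ (w - 9) * b2 ∧ (13 : ℤ) ∣ (w + 3) * b4 ∧ (13 : ℤ) ∣ (w + 9) * s := by
  obtain ⟨z, hz13, hμ⟩ := hz
  rw [sum_thirteen hf hz13] at hμ
  obtain ⟨μ, hμe⟩ : ∃ μ : ℂ, μ = W f [1, 0, 0, 0, 0, 0, 0, 0, 3, 3, 3, 3] / 13 := ⟨_, rfl⟩
  rw [← hμe] at hμ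
  rw [W_eq] at hμe
  obtain ⟨v0, v1, v2, v3, v4, v5, v6⟩ := h
  obtain ⟨c0, hc0, T0⟩ := hw (xr 0)
  rw [sum_inv hf (cd_xr (by norm_num)) ok0 cn0, W_eq, ← Fv_eq (f := f) (by norm_num)] at T0
  obtain ⟨c1, hc1, T1⟩ := hw (xr 1)
  rw [sum_inv hf (cd_xr (by norm_num)) ok1 cn1, W_eq, ← Fv_eq (f := f) (by norm_num)] at T1
  obtain ⟨c2, hc2, T2⟩ := hw (xr 2)
  rw [sum_inv hf (cd_xr (by norm_num)) ok2 cn2, W_eq, ← Fv_eq (f := f) (by norm_num)] at T2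
  obtain ⟨c3, hc3, T3⟩ := hw (xr 3)
  rw [sum_inv hf (cd_xr (by norm_num)) ok3 cn3, W_eq, ← Fv_eq (f := f) (by norm_num)] at T3
  obtain ⟨c4, hc4, T4⟩ := hw (xr 4)
  rw [sum_inv hf (cd_xr (by norm_num)) ok4 cn4, W_eq, ← Fv_eq (f := f) (by norm_num)] at T4
  obtain ⟨c5, hc5, T5⟩ := hw (xr 5)
  rw [sum_inv hf (cd_xr (by norm_num)) ok5 cn5, W_eq, ← Fv_eq (f := f) (by norm_num)] at T5
  obtain ⟨c6, hc6, T6⟩ := hw (xr 6)
  rw [sum_inv hf (cd_xr (by norm_num)) ok6 cn6, W_eq, ← Fv_eq (f := f) (by norm_num)] at T6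
  obtain ⟨c7, hc7, T7⟩ := hw (xr 7)
  rw [sum_inv hf (cd_xr (by norm_num)) ok7 cn7, W_eq, ← Fv_eq (f := f) (by norm_num)] at T7
  norm_num only [Nat.cast_zero, Nat.cast_one, Nat.cast_ofNat, zero_mul, one_mul, add_zero, zero_add] at hμe T0 T1 T2 T3 T4 T5 T6 T7
  have P0 : (13 : ℤ) ∣ 1296 * (w * a1) := by
    refine int_of (x := ((9072 : ℤ) : ℂ) * (a1 : ℂ) + ((-5184 : ℤ) : ℂ) * (a2 : ℂ) + ((-2592 : ℤ) : ℂ) * (a3 : ℂ) + ((-2592 : ℤ) : ℂ) * (b1 : ℂ) + ((-5184 : ℤ) : ℂ) * (b2 : ℂ) + ((-5184 : ℤ) : ℂ) * (s : ℂ) + ((-7776 : ℤ) : ℂ) * (b4 : ℂ) + ((2592 : ℤ) : ℂ) * μ + ((-3 : ℤ) : ℂ) * c0 + ((-135 : ℤ) : ℂ) * c1 + ((-96 : ℤ) : ℂ) * c2 + ((-144 : ℤ) : ℂ) * c3 + ((-162 : ℤ) : ℂ) * c4 + ((-432 : ℤ) : ℂ) * c5 + ((-162 : ℤ) : ℂ) * c6 + ((-162 : ℤ) : ℂ) * c7) ?_ ?_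
    · repeat' apply IsIntegral.add
      all_goals apply IsIntegral.mul (isIntegral_intCast _)
      all_goals first | assumption | exact isIntegral_intCast _
    · push_cast
      linear_combination (-3) * T0 + (-135) * T1 + (-96) * T2 + (-144) * T3 + (-162) * T4 + (-432) * T5 + (-162) * T6 + (-162) * T7 + (-33696) * hμe + ((-3) * (w : ℂ) + (-2457)) * v0 + ((-135) * (w : ℂ) + 7371) * v1 + ((-96) * (w : ℂ) + 5616) * v2 + ((-144) * (w : ℂ) + 16848) * v3 + ((-162) * (w : ℂ) + 18954) * v4 + ((-432) * (w : ℂ) + 33696) * v5 + ((-162) * (w : ℂ) + 18954) * v6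
  have P1 : (13 : ℤ) ∣ 1296 * (w * a2) := by
    refine int_of (x := ((864 : ℤ) : ℂ) * (a1 : ℂ) + ((3024 : ℤ) : ℂ) * (a2 : ℂ) + ((864 : ℤ) : ℂ) * (a3 : ℂ) + ((864 : ℤ) : ℂ) * (b1 : ℂ) + ((1728 : ℤ) : ℂ) * (b2 : ℂ) + ((1728 : ℤ) : ℂ) * (s : ℂ) + ((2592 : ℤ) : ℂ) * (b4 : ℂ) + ((-864 : ℤ) : ℂ) * μ + ((-9 : ℤ) : ℂ) * c0 + ((-189 : ℤ) : ℂ) * c1 + ((-72 : ℤ) : ℂ) * c2 + ((162 : ℤ) : ℂ) * c4 + ((-216 : ℤ) : ℂ) * c5 + ((162 : ℤ) : ℂ) * c6 + ((162 : ℤ) : ℂ) * c7) ?_ ?_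
    · repeat' apply IsIntegral.add
      all_goals apply IsIntegral.mul (isIntegral_intCast _)
      all_goals first | assumption | exact isIntegral_intCast _
    · push_cast
      linear_combination (-9) * T0 + (-189) * T1 + (-72) * T2 + 162 * T4 + (-216) * T5 + 162 * T6 + 162 * T7 + 11232 * hμe + ((-9) * (w : ℂ) + 1053) * v0 + ((-189) * (w : ℂ) + 5265) * v1 + ((-72) * (w : ℂ) + 2808) * v2 + (162 * (w : ℂ) + (-2106)) * v4 + ((-216) * (w : ℂ) + 8424) * v5 + (162 * (w : ℂ) + (-2106)) * v6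
  have P2 : (13 : ℤ) ∣ 1296 * (w * a3) := by
    refine int_of (x := ((-432 : ℤ) : ℂ) * (a1 : ℂ) + ((432 : ℤ) : ℂ) * (a2 : ℂ) + ((-432 : ℤ) : ℂ) * (a3 : ℂ) + ((-432 : ℤ) : ℂ) * (b1 : ℂ) + ((-864 : ℤ) : ℂ) * (b2 : ℂ) + ((-864 : ℤ) : ℂ) * (s : ℂ) + ((-1296 : ℤ) : ℂ) * (b4 : ℂ) + ((432 : ℤ) : ℂ) * μ + ((-21 : ℤ) : ℂ) * c0 + ((-81 : ℤ) : ℂ) * c1 + ((192 : ℤ) : ℂ) * c2 + ((-576 : ℤ) : ℂ) * c3 + ((162 : ℤ) : ℂ) * c4 + ((162 : ℤ) : ℂ) * c6 + ((162 : ℤ) : ℂ) * c7) ?_ ?_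
    · repeat' apply IsIntegral.add
      all_goals apply IsIntegral.mul (isIntegral_intCast _)
      all_goals first | assumption | exact isIntegral_intCast _
    · push_cast
      linear_combination (-21) * T0 + (-81) * T1 + 192 * T2 + (-576) * T3 + 162 * T4 + 162 * T6 + 162 * T7 + (-5616) * hμe + ((-21) * (w : ℂ) + (-351)) * v0 + ((-81) * (w : ℂ) + 1053) * v1 + (192 * (w : ℂ)) * v2 + ((-576) * (w : ℂ)) * v3 + (162 * (w : ℂ) + (-2106)) * v4 + (162 * (w : ℂ) + (-2106)) * v6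
  have P3 : (13 : ℤ) ∣ 1296 * ((w + 27) * b1) := by
    refine int_of (x := ((-3 : ℤ) : ℂ) * c0 + ((81 : ℤ) : ℂ) * c1 + ((-96 : ℤ) : ℂ) * c2 + ((-144 : ℤ) : ℂ) * c3 + ((-162 : ℤ) : ℂ) * c4 + ((162 : ℤ) : ℂ) * c6 + ((162 : ℤ) : ℂ) * c7) ?_ ?_
    · repeat' apply IsIntegral.add
      all_goals apply IsIntegral.mul (isIntegral_intCast _)
      all_goals assumption
    · push_cast
      linear_combination (-3) * T0 + 81 * T1 + (-96) * T2 + (-144) * T3 + (-162) * T4 + 162 * T6 + 162 * T7 + ((-3) * (w : ℂ) + (-81)) * v0 + (81 * (w : ℂ) + 2187) * v1 + ((-96) * (w : ℂ) + (-2592)) * v2 + ((-144) * (w : ℂ) + (-3888)) * v3 + ((-162) * (w : ℂ) + (-4374)) * v4 + (162 * (w : ℂ) + 4374) * v6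
  have P4 : (13 : ℤ) ∣ 1296 * ((w - 9) * b2) := by
    refine int_of (x := ((-6 : ℤ) : ℂ) * c0 + ((-54 : ℤ) : ℂ) * c1 + ((24 : ℤ) : ℂ) * c2 + ((144 : ℤ) : ℂ) * c3 + ((-324 : ℤ) : ℂ) * c4 + ((216 : ℤ) : ℂ) * c5) ?_ ?_
    · repeat' apply IsIntegral.add
      all_goals apply IsIntegral.mul (isIntegral_intCast _)
      all_goals assumption
    · push_cast
      linear_combination (-6) * T0 + (-54) * T1 + 24 * T2 + 144 * T3 + (-324) * T4 + 216 * T5 + ((-6) * (w : ℂ) + 54) * v0 + ((-54) * (w : ℂ) + 486) * v1 + (24 * (w : ℂ) + (-216)) * v2 + (144 * (w : ℂ) + (-1296)) * v3 + ((-324) * (w : ℂ) + 2916) * v4 + (216 * (w : ℂ) + (-1944)) * v5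
  have P5 : (13 : ℤ) ∣ 1296 * ((w + 9) * s) := by
    refine int_of (x := ((-12 : ℤ) : ℂ) * c0 + ((108 : ℤ) : ℂ) * c1 + ((48 : ℤ) : ℂ) * c2 + ((288 : ℤ) : ℂ) * c3 + ((-432 : ℤ) : ℂ) * c5) ?_ ?_
    · repeat' apply IsIntegral.add
      all_goals apply IsIntegral.mul (isIntegral_intCast _)
      all_goals assumption
    · push_cast
      linear_combination (-12) * T0 + 108 * T1 + 48 * T2 + 288 * T3 + (-432) * T5 + ((-12) * (w : ℂ) + (-108)) * v0 + (108 * (w : ℂ) + 972) * v1 + (48 * (w : ℂ) + 432) * v2 + (288 * (w : ℂ) + 2592) * v3 + ((-432) * (w : ℂ) + (-3888)) * v5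
  have P6 : (13 : ℤ) ∣ 1296 * ((w + 3) * b4) := by
    refine int_of (x := ((-9 : ℤ) : ℂ) * c0 + ((27 : ℤ) : ℂ) * c1 + ((-72 : ℤ) : ℂ) * c2 + ((162 : ℤ) : ℂ) * c4 + ((216 : ℤ) : ℂ) * c5 + ((-162 : ℤ) : ℂ) * c6 + ((-162 : ℤ) : ℂ) * c7) ?_ ?_
    · repeat' apply IsIntegral.add
      all_goals apply IsIntegral.mul (isIntegral_intCast _)
      all_goals assumption
    · push_cast
      linear_combination (-9) * T0 + 27 * T1 + (-72) * T2 + 162 * T4 + 216 * T5 + (-162) * T6 + (-162) * T7 + ((-9) * (w : ℂ) + (-27)) * v0 + (27 * (w : ℂ) + 81) * v1 + ((-72) * (w : ℂ) + (-216)) * v2 + (162 * (w : ℂ) + 486) * v4 + (216 * (w : ℂ) + 648) * v5 + ((-162) * (w : ℂ) + (-486)) * v6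
  refine ⟨dvd_of P0, dvd_of P1, dvd_of P2, ?_, dvd_of P4, dvd_of P6, dvd_of P5⟩
  have e : (w + 1) * b1 = (w + 27) * b1 - 13 * (2 * b1) := by ring
  rw [e]
  exact dvd_sub (dvd_of P3) (dvd_mul_right _ _)

/-- everything, for `SL₃(3)` -/
theorem coreS (f : S → ℂ) (hf : ∀ x y, f (x * y * x⁻¹) = f y)
    (hint : ∀ H : Subgroup S, ¬ 13 ∣ Nat.card H → ∃ m : ℤ, ∑ᶠ h : H, f h = m * Nat.card H) :
    ∃ a1 a2 a3 b1 b2 b4 s : ℤ, f 1 = a1 + 11 * a2 + 16 * a3 + 13 * b1 + 26 * b2 + 26 * s + 39 * b4 ∧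
      (∀ t, orderOf t = 2 → f t = a1 + 3 * a2 - 3 * b1 + 2 * b2 - 2 * s - b4) ∧
      (N13 a1 a2 a3 : ℝ) / 13 + b1 ^ 2 + b2 ^ 2 + b4 ^ 2 + s ^ 2 / 2 ≤
        (∑ y : S with ¬ 13 ∣ orderOf y, ‖f y‖ ^ 2) / 5616 ∧
      ∀ w : ℤ, (∀ y, ∃ c : ℂ, IsIntegral ℤ c ∧ ∑ k : S with orderOf k = 2, f (y * k) = w * f y + 13 * c) →
        (∃ z : S, orderOf z = 13 ∧ IsIntegral ℤ ((∑ j ∈ Finset.range 13, f (z ^ j)) / 13)) →
        (13 : ℤ) ∣ w * a1 ∧ (13 : ℤ) ∣ w * a2 ∧ (13 : ℤ) ∣ w * a3 ∧ (13 : ℤ) ∣ (w + 1) * b1 ∧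
          (13 : ℤ) ∣ (w - 9) * b2 ∧ (13 : ℤ) ∣ (w + 3) * b4 ∧ (13 : ℤ) ∣ (w + 9) * s := by
  obtain ⟨a1, a2, a3, b1, b2, s, b4, h⟩ := exists_vals hf hint
  refine ⟨a1, a2, a3, b1, b2, b4, s, ?_, ?_, norm_vals hf h, fun w hw hz => pure_vals hf h hw hz⟩
  · have h0 := h.v0
    rw [Fv_eq (by norm_num), xr_zero] at h0
    rw [h0]; ring
  · intro t ht
    have h1 := h.v1
    have h2 : ev f (cd t) = Fv f 1 := by
      obtain ⟨v1, v2⟩ := valid_spec validK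
      have r0 : rp 0 = 6643 := by decide +kernel
      have hok := ok0
      rw [Bool.and_eq_true, r0] at hok
      have hK1 := okL_mem hf (i := 1) (by decide +kernel) (fun c hc => (v2 c hc).2) hok.1 (by decide +kernel) _
        (orderOf_two_iff.mp ht)
      rw [mulC_one (cd_lt t)] at hK1
      exact hK1
    rw [ev_cd] at h2
    rw [h2, h1]; ring

universe u

/-- **The section of the class `13A`, the side of `L₃(3)`.** -/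
theorem core {L : Type u} [Group L] [Fintype L] (e : L ≃* Matrix.SpecialLinearGroup (Fin 3) (ZMod 3)) (f : L → ℂ)
    (hf : ∀ x y, f (x * y * x⁻¹) = f y)
    (hint : ∀ H : Subgroup L, ¬ 13 ∣ Nat.card H → ∃ m : ℤ, ∑ᶠ h : H, f h = m * Nat.card H) :
    ∃ a1 a2 a3 b1 b2 b4 s : ℤ, f 1 = a1 + 11 * a2 + 16 * a3 + 13 * b1 + 26 * b2 + 26 * s + 39 * b4 ∧
      (∀ t, orderOf t = 2 → f t = a1 + 3 * a2 - 3 * b1 + 2 * b2 - 2 * s - b4) ∧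
      (N13 a1 a2 a3 : ℝ) / 13 + b1 ^ 2 + b2 ^ 2 + b4 ^ 2 + s ^ 2 / 2 ≤
        (∑ y : L with ¬ 13 ∣ orderOf y, ‖f y‖ ^ 2) / 5616 ∧
      ∀ w : ℤ, (∀ y, ∃ c : ℂ, IsIntegral ℤ c ∧ ∑ k : L with orderOf k = 2, f (y * k) = w * f y + 13 * c) →
        (∃ z : L, orderOf z = 13 ∧ IsIntegral ℤ ((∑ j ∈ Finset.range 13, f (z ^ j)) / 13)) →
        (13 : ℤ) ∣ w * a1 ∧ (13 : ℤ) ∣ w * a2 ∧ (13 : ℤ) ∣ w * a3 ∧ (13 : ℤ) ∣ (w + 1) * b1 ∧
          (13 : ℤ) ∣ (w - 9) * b2 ∧ (13 : ℤ) ∣ (w + 3) * b4 ∧ (13 : ℤ) ∣ (w + 9) * s := by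
  obtain ⟨a1, a2, a3, b1, b2, b4, s, h1, h2, h3, h4⟩ := coreS (fun x => f (e.symm x))
    (fun x y => by rw [map_mul, map_mul, map_inv]; exact hf _ _) (by
      intro H hH
      have hc : Nat.card (H.map (e.symm : S →* L)) = Nat.card H :=
        (Nat.card_congr (e.symm.subgroupMap H).toEquiv).symm
      obtain ⟨m, hm⟩ := hint (H.map (e.symm : S →* L)) (by rw [hc]; exact hH)
      refine ⟨m, ?_⟩
      rw [hc] at hm
      rw [← hm]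
      exact finsum_eq_of_bijective (e.symm.subgroupMap H) (e.symm.subgroupMap H).bijective (fun x => rfl))
  refine ⟨a1, a2, a3, b1, b2, b4, s, ?_, ?_, ?_, ?_⟩
  · rw [← h1, map_one]
  · intro t ht
    have h5 := h2 (e t) (by rw [MulEquiv.orderOf_eq]; exact ht)
    rw [e.symm_apply_apply] at h5
    exact h5
  · have h7 : ∑ y : S with ¬ 13 ∣ orderOf y, ‖f (e.symm y)‖ ^ 2 = ∑ y : L with ¬ 13 ∣ orderOf y, ‖f y‖ ^ 2 := by
      refine Finset.sum_equiv e.symm.toEquiv (fun y => ?_) (fun y _ => rfl)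
      rw [Finset.mem_filter, Finset.mem_filter]
      have h6 : orderOf (e.symm.toEquiv y) = orderOf y := MulEquiv.orderOf_eq e.symm y
      rw [h6]
      exact ⟨fun h => ⟨Finset.mem_univ _, h.2⟩, fun h => ⟨Finset.mem_univ _, h.2⟩⟩
    rw [← h7]
    exact h3
  · intro w hw hz
    refine h4 w ?_ ?_
    · intro y
      obtain ⟨c, hc, h5⟩ := hw (e.symm y)
      refine ⟨c, hc, ?_⟩
      rw [← h5]
      refine Finset.sum_equiv e.symm.toEquiv (fun k => ?_) (fun k _ => by rw [map_mul]; rfl)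
      rw [Finset.mem_filter, Finset.mem_filter]
      have h6 : orderOf (e.symm.toEquiv k) = orderOf k := MulEquiv.orderOf_eq e.symm k
      rw [h6]
      exact ⟨fun h => ⟨Finset.mem_univ _, h.2⟩, fun h => ⟨Finset.mem_univ _, h.2⟩⟩
    · obtain ⟨z, hz1, hz2⟩ := hz
      refine ⟨e z, by rw [MulEquiv.orderOf_eq]; exact hz1, ?_⟩
      simp only [← map_pow, e.symm_apply_apply]
      exact hz2

end Cfsg.Agent.H599.M23.L33
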