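import Cfsg.Agent.H599.M23.Inv3

/-!
# The norm of a class function of `SL₃(3)` on the 13-regular elements; elements of order 13
-/

set_option autoImplicit false

open scoped BigOperators

namespace Cfsg.Agent.H599.M23.Norm3

open Code3 Data3 Spec3 Inv3

attribute [local irreducible] mulC detC mk e3 detD dg rp

variable {f : S → ℂ}

theorem card_class {G : Type*} [Group G] [Finite G] (t : G) :
    Nat.card {u : G // IsConj t u} * Nat.card (Subgroup.centralizer ({t} : Set G)) = Nat.card G := by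
  rw [Subgroup.nat_card_centralizer_nat_card_stabilizer]
  have h := Nat.card_congr (MulAction.orbitProdStabilizerEquivGroup (ConjAct G) t)
  rw [Nat.card_prod] at h
  have h2 : Nat.card (MulAction.orbit (ConjAct G) t) = Nat.card {u : G // IsConj t u} := by
    apply Nat.card_congr
    apply Equiv.subtypeEquivRight
    intro u
    rw [ConjAct.mem_orbit_conjAct, isConj_comm]
  rw [← h2, h]
  exact Nat.card_congr ConjAct.ofConjAct.toEquiv

theorem f_conj (hf : ∀ x y, f (x * y * x⁻¹) = f y) {a b : S} (h : IsConj a b) : f b = f a := by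
  obtain ⟨c, hc⟩ := isConj_iff.mp h
  rw [← hc, hf]

theorem orderOf_conj {G : Type*} [Group G] {x y : G} (h : IsConj x y) : orderOf y = orderOf x := by
  obtain ⟨c, hc⟩ := isConj_iff.mp h
  rw [← hc]
  exact orderOf_injective (MulAut.conj c).toMonoidHom (MulAut.conj c).injective x

theorem trace_conj {a b : S} (h : IsConj a b) : a.1.trace = b.1.trace := by
  obtain ⟨c, hc⟩ := isConj_iff.mp h
  have h1 : b.1 = c.1 * a.1 * (c⁻¹ : S).1 := by rw [← hc]; rfl
  have h2 : (c⁻¹ : S).1 * c.1 = 1 := by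
    have : (c⁻¹ * c : S).1 = (1 : S).1 := by rw [inv_mul_cancel]
    exact this
  rw [h1, Matrix.trace_mul_comm, ← mul_assoc, h2, one_mul]

theorem sq_conj {a b : S} (h : IsConj a b) (ha : (a.1 - 1) * (a.1 - 1) = 0) : (b.1 - 1) * (b.1 - 1) = 0 := by
  obtain ⟨c, hc⟩ := isConj_iff.mp h
  have h1 : b.1 = c.1 * a.1 * (c⁻¹ : S).1 := by rw [← hc]; rfl
  have h2 : c.1 * (c⁻¹ : S).1 = 1 := by
    have : (c * c⁻¹ : S).1 = (1 : S).1 := by rw [mul_inv_cancel]
    exact this
  have h3 : (c⁻¹ : S).1 * c.1 = 1 := by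
    have : (c⁻¹ * c : S).1 = (1 : S).1 := by rw [inv_mul_cancel]
    exact this
  have h4 : b.1 - 1 = c.1 * (a.1 - 1) * (c⁻¹ : S).1 := by
    rw [mul_sub, sub_mul, mul_one, h2, h1]
  calc (b.1 - 1) * (b.1 - 1) = c.1 * (a.1 - 1) * ((c⁻¹ : S).1 * c.1) * (a.1 - 1) * (c⁻¹ : S).1 := by
        rw [h4]; noncomm_ring
    _ = c.1 * ((a.1 - 1) * (a.1 - 1)) * (c⁻¹ : S).1 := by rw [h3]; noncomm_ring
    _ = 0 := by rw [ha, mul_zero, zero_mul]

theorem tm_xr {i : Nat} (hi : i < 12) : (xr i).1 = tm (rp i) := by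
  rw [← cd_xr hi, tm_cd]

theorem not23 : ¬ IsConj (xr 2) (xr 3) := by
  intro h
  have h2 : ((xr 2).1 - 1) * ((xr 2).1 - 1) = 0 := by
    rw [tm_xr (by norm_num)]; decide +kernel
  have h3 := sq_conj h h2
  rw [tm_xr (by norm_num)] at h3
  revert h3
  decide +kernel

theorem not67 : ¬ IsConj (xr 6) (xr 7) := by
  intro h
  have h3 := trace_conj h
  rw [tm_xr (by norm_num), tm_xr (by norm_num)] at h3
  revert h3
  decide +kernel

theorem inj_xr : ∀ i < 8, ∀ j < 8, IsConj (xr i) (xr j) → i = j := by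
  obtain ⟨o0, o1, o2, o3, o4, o5, o6, o7⟩ := order_xr
  intro i hi j hj h
  have ho := orderOf_conj h
  have h23 := not23
  have h32 : ¬ IsConj (xr 3) (xr 2) := fun h => h23 h.symm
  have h67 := not67
  have h76 : ¬ IsConj (xr 7) (xr 6) := fun h => h67 h.symm
  interval_cases i <;> interval_cases j <;>
    first
    | rfl
    | (exfalso; simp only [o0, o1, o2, o3, o4, o5, o6, o7] at ho; omega)
    | exact absurd h h23
    | exact absurd h h32
    | exact absurd h h67
    | exact absurd h h76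

theorem reg_xr : ∀ i < 8, ¬ 13 ∣ orderOf (xr i) := by
  obtain ⟨o0, o1, o2, o3, o4, o5, o6, o7⟩ := order_xr
  intro i hi
  interval_cases i <;> simp only [o0, o1, o2, o3, o4, o5, o6, o7] <;> decide

/-- the centralizer orders -/
def cz (i : Nat) : Nat := [5616, 48, 54, 9, 8, 6, 8, 8].getD i 0

theorem vals {i : Nat} (hi : i < 12) {M : Matrix (Fin 3) (Fin 3) (ZMod 3)} (h : tm (rp i) = M) (a b : Fin 3) :
    ((xr i).1 a b).val = (M a b).val := by rw [tm_xr hi, h]

theorem cent_xr : ∀ i < 8, Nat.card (Subgroup.centralizer {xr i}) ≤ cz i := by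
  have h7 : Subgroup.centralizer {xr 7} ≤ Subgroup.centralizer {xr 6} := by
    have e : xr 6 = (xr 7) ^ 7 := by
      apply cd_inj
      rw [cd_pow, cd_xr (by norm_num), cd_xr (by norm_num)]
      decide +kernel
    intro g hg
    rw [Subgroup.mem_centralizer_iff] at hg ⊢
    intro y hy
    rw [Set.mem_singleton_iff] at hy
    have h1 : Commute (xr 7) g := hg (xr 7) (Set.mem_singleton _)
    rw [hy, e]
    exact h1.pow_left 7
  have c6 : Nat.card (Subgroup.centralizer {xr 6}) ≤ cz 6 := by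
    refine cent_le (l := Z6) ?_ ?_ ?_ ?_ ?_ ?_ ?_ ?_ ?_ z6 <;> rw [tm_xr (by norm_num)] <;> decide +kernel
  intro i hi
  interval_cases i
  · refine (Subgroup.card_le_card_group _).trans ?_
    rw [card_S]; decide
  · refine cent_le (l := Z1) ?_ ?_ ?_ ?_ ?_ ?_ ?_ ?_ ?_ z1 <;> rw [tm_xr (by norm_num)] <;> decide +kernel
  · refine cent_le (l := Z2) ?_ ?_ ?_ ?_ ?_ ?_ ?_ ?_ ?_ z2 <;> rw [tm_xr (by norm_num)] <;> decide +kernel
  · refine cent_le (l := Z3) ?_ ?_ ?_ ?_ ?_ ?_ ?_ ?_ ?_ z3 <;> rw [tm_xr (by norm_num)] <;> decide +kernel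
  · refine cent_le (l := Z4) ?_ ?_ ?_ ?_ ?_ ?_ ?_ ?_ ?_ z4 <;> rw [tm_xr (by norm_num)] <;> decide +kernel
  · refine cent_le (l := Z5) ?_ ?_ ?_ ?_ ?_ ?_ ?_ ?_ ?_ z5 <;> rw [tm_xr (by norm_num)] <;> decide +kernel
  · exact c6
  · refine (Nat.card_le_card_of_injective _ (Subgroup.inclusion_injective h7)).trans ?_
    exact c6

theorem class_ge (hf : ∀ x y, f (x * y * x⁻¹) = f y) {x : S} {n : ℕ}
    (hn : Nat.card (Subgroup.centralizer {x}) ≤ n) [DecidablePred fun y => IsConj x y] :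
    (5616 / n : ℝ) * ‖f x‖ ^ 2 ≤ ∑ y : S with IsConj x y, ‖f y‖ ^ 2 := by
  classical
  have h1 : ∑ y : S with IsConj x y, ‖f y‖ ^ 2 = ∑ y : S with IsConj x y, ‖f x‖ ^ 2 := by
    refine Finset.sum_congr rfl fun y hy => ?_
    rw [Finset.mem_filter] at hy
    rw [f_conj hf hy.2]
  rw [h1, Finset.sum_const, nsmul_eq_mul]
  refine mul_le_mul_of_nonneg_right ?_ (sq_nonneg _)
  have h2 := card_class x
  rw [card_S, Nat.card_eq_fintype_card, Fintype.card_subtype] at h2
  have h3 : 0 < Nat.card (Subgroup.centralizer {x}) := Nat.card_pos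
  have h4 : (0 : ℝ) < n := by exact_mod_cast lt_of_lt_of_le h3 hn
  rw [div_le_iff₀ h4]
  have h5 : (Finset.univ.filter fun y => IsConj x y).card * Nat.card (Subgroup.centralizer {x}) ≤
      (Finset.univ.filter fun y => IsConj x y).card * n := Nat.mul_le_mul_left _ hn
  have h6 : (Finset.univ.filter fun y => IsConj x y).card * Nat.card (Subgroup.centralizer {x}) = 5616 := by
    rw [← h2]
  rw [h6] at h5
  exact_mod_cast h5

theorem norm_ge (hf : ∀ x y, f (x * y * x⁻¹) = f y) :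
    ∑ i ∈ Finset.range 8, (5616 / cz i : ℝ) * ‖f (xr i)‖ ^ 2 ≤ ∑ y : S with ¬ 13 ∣ orderOf y, ‖f y‖ ^ 2 := by
  classical
  have hd : ∀ i ∈ Finset.range 8, ∀ j ∈ Finset.range 8, i ≠ j →
      Disjoint (Finset.univ.filter fun y => IsConj (xr i) y) (Finset.univ.filter fun y => IsConj (xr j) y) := by
    intro i hi j hj hij
    rw [Finset.disjoint_left]
    intro y hy1 hy2
    rw [Finset.mem_filter] at hy1 hy2
    rw [Finset.mem_range] at hi hj
    exact hij (inj_xr i hi j hj (hy1.2.trans hy2.2.symm))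
  calc ∑ i ∈ Finset.range 8, (5616 / cz i : ℝ) * ‖f (xr i)‖ ^ 2
      ≤ ∑ i ∈ Finset.range 8, ∑ y : S with IsConj (xr i) y, ‖f y‖ ^ 2 := by
        refine Finset.sum_le_sum fun i hi => ?_
        rw [Finset.mem_range] at hi
        exact class_ge hf (cent_xr i hi)
    _ = ∑ y ∈ (Finset.range 8).biUnion (fun i => Finset.univ.filter fun y => IsConj (xr i) y), ‖f y‖ ^ 2 := by
        rw [Finset.sum_biUnion]
        intro i hi j hj hij
        exact hd i hi j hj hij
    _ ≤ ∑ y : S with ¬ 13 ∣ orderOf y, ‖f y‖ ^ 2 := by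
        refine Finset.sum_le_sum_of_subset_of_nonneg ?_ (fun _ _ _ => sq_nonneg _)
        intro y hy
        rw [Finset.mem_biUnion] at hy
        obtain ⟨i, hi, hy⟩ := hy
        rw [Finset.mem_filter] at hy ⊢
        rw [Finset.mem_range] at hi
        refine ⟨Finset.mem_univ _, ?_⟩
        rw [orderOf_conj hy.2]
        exact reg_xr i hi

/-! ### Elements of order 13 -/

theorem sum_thirteen (hf : ∀ x y, f (x * y * x⁻¹) = f y) {z : S} (hz : orderOf z = 13) :
    ∑ j ∈ Finset.range 13, f (z ^ j) = W f [1, 0, 0, 0, 0, 0, 0, 0, 3, 3, 3, 3] := by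
  classical
  obtain ⟨H, hH, hs⟩ := sub_avg hf (l := G7) (ts := E7) (h1 := by decide) g7 c7
  have hH13 : Nat.card H = 13 := hH
  rw [← hs]
  have : Fact (Nat.Prime 13) := ⟨by norm_num⟩
  have hfac : (Nat.card S).factorization 13 = 1 := by
    rw [card_S]
    have : 5616 = 13 * 432 := by norm_num
    rw [this, Nat.factorization_mul (by norm_num) (by norm_num)]
    have h1 : (432 : ℕ).factorization 13 = 0 := Nat.factorization_eq_zero_of_not_dvd (by decide)
    simp [h1, Nat.Prime.factorization_self (by norm_num : Nat.Prime 13)]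
  have hZ13 : Nat.card (Subgroup.zpowers z) = 13 := by rw [Nat.card_zpowers, hz]
  let P : Sylow 13 S := Sylow.ofCard (Subgroup.zpowers z) (by rw [hZ13, hfac, pow_one])
  let Q : Sylow 13 S := Sylow.ofCard H (by rw [hH13, hfac, pow_one])
  obtain ⟨g, hg⟩ := MulAction.exists_smul_eq S P Q
  have hmem : ∀ j : ℕ, g * z ^ j * g⁻¹ ∈ H := by
    intro j
    have h1 : z ^ j ∈ (P : Subgroup S) := Subgroup.pow_mem _ (Subgroup.mem_zpowers z) j
    have h2 : g * z ^ j * g⁻¹ ∈ ((g • P : Sylow 13 S) : Subgroup S) := by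
      rw [Sylow.coe_subgroup_smul]
      exact Subgroup.smul_mem_pointwise_smul _ (MulAut.conj g) _ h1
    rw [hg] at h2
    exact h2
  rw [finsum_eq_sum_of_fintype, Finset.sum_range]
  refine Fintype.sum_bijective (fun j : Fin 13 => (⟨g * z ^ (j : ℕ) * g⁻¹, hmem j⟩ : H)) ?_ _ _ ?_
  · rw [Fintype.bijective_iff_injective_and_card]
    constructor
    · intro a b hab
      have h1 : g * z ^ (a : ℕ) * g⁻¹ = g * z ^ (b : ℕ) * g⁻¹ := congrArg Subtype.val hab
      have h2 : z ^ (a : ℕ) = z ^ (b : ℕ) := mul_left_cancel (mul_right_cancel h1)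
      rw [pow_inj_mod, hz, Nat.mod_eq_of_lt a.2, Nat.mod_eq_of_lt b.2] at h2
      exact Fin.ext h2
    · rw [Fintype.card_fin, ← Nat.card_eq_fintype_card, hH13]
  · intro j
    exact (hf g (z ^ (j : ℕ))).symm

end Cfsg.Agent.H599.M23.Norm3
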