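import Cfsg.Agent.H599.M23.Data3
import Cfsg.Agent.ClassicalGeometry.PSL2Basic

/-!
# The meaning of the data in `SL₃(3)`
-/

set_option autoImplicit false

open scoped BigOperators

namespace Cfsg.Agent.H599.M23.Spec3

open Code3 Data3

attribute [local irreducible] mulC detC mk e3 detD dg rp

theorem memb_iff {x : Nat} {l : List Nat} : memb x l = true ↔ x ∈ l := by
  induction l with
  | nil => simp [memb]
  | cons a l ih =>
    simp only [memb, Bool.or_eq_true, ih, List.mem_cons]
    constructor
    · rintro (h | h)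
      · exact Or.inl (Nat.eq_of_beq_eq_true h)
      · exact Or.inr h
    · rintro (h | h)
      · left; rw [h]; exact Nat.beq_refl a
      · exact Or.inr h

theorem beq_iff {a b : Nat} : Nat.beq a b = true ↔ a = b :=
  ⟨Nat.eq_of_beq_eq_true, fun h => by rw [h]; exact Nat.beq_refl b⟩

theorem blt_iff {a b : Nat} : Nat.blt a b = true ↔ a < b := by
  unfold Nat.blt
  rw [Nat.ble_eq]
  exact Nat.succ_le_iff

theorem valid_spec {l : List Nat} (h : valid l = true) : l.Nodup ∧ ∀ c ∈ l, c < 19683 ∧ detC c = 1 := by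
  induction l with
  | nil => simp
  | cons a l ih =>
    simp only [valid, Bool.and_eq_true, blt_iff, beq_iff, Bool.not_eq_true'] at h
    obtain ⟨⟨h1, h2⟩, h3, h4⟩ := h
    obtain ⟨i1, i2⟩ := ih h4
    refine ⟨?_, ?_⟩
    · rw [List.nodup_cons]
      refine ⟨?_, i1⟩
      intro hm
      rw [← memb_iff] at hm
      rw [hm] at h3
      exact Bool.noConfusion h3
    · intro c hc
      rw [List.mem_cons] at hc
      rcases hc with rfl | hc
      · exact ⟨h1, h2⟩
      · exact i2 c hc

variable {f : S → ℂ}

theorem det_of_chk {a q r : Nat} (ha : detC a = 1) (h : chk a q r = true) :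
    mulC a q = mulC q r ∧ detC q = 1 ∧ detC r = 1 := by
  simp only [chk, Bool.and_eq_true, beq_iff] at h
  obtain ⟨h1, h2⟩ := h
  refine ⟨h1, h2, ?_⟩
  have ha' := detC_eq_one.mp ha
  have h2' := detC_eq_one.mp h2
  rw [detC_eq_one]
  have h3 : (tm (mulC a q)).det = (tm (mulC q r)).det := by rw [h1]
  rw [tm_mul, tm_mul, Matrix.det_mul, Matrix.det_mul, ha', h2', one_mul, one_mul] at h3
  exact h3.symm

theorem ev_chk (hf : ∀ x y, f (x * y * x⁻¹) = f y) {a q r : Nat} (ha : detC a = 1) (h : chk a q r = true) :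
    ev f a = ev f r := by
  obtain ⟨h1, h2, h3⟩ := det_of_chk ha h
  exact ev_conj hf ha h2 h3 h1

theorem okL_cons (y c t : Nat) (cs ts : List Nat) : okL y (c :: cs) (t :: ts) =
    and (chk (mulC y c) (Nat.mod t 19683) (rp (Nat.div t 19683))) (okL y cs ts) := by rw [okL]

theorem okL_nil_cons (y t : Nat) (ts : List Nat) : okL y [] (t :: ts) = false := rfl

theorem okL_cons_nil (y c : Nat) (cs : List Nat) : okL y (c :: cs) [] = false := rfl

theorem okL_map (hf : ∀ x y, f (x * y * x⁻¹) = f y) {y : Nat} (hy : detC y = 1) :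
    ∀ {cs ts : List Nat}, (∀ c ∈ cs, detC c = 1) → okL y cs ts = true →
      (cs.map fun c => ev f (mulC y c)).sum = (ts.map fun t => ev f (rp (Nat.div t 19683))).sum := by
  intro cs
  induction cs with
  | nil =>
    intro ts _ h
    cases ts with
    | nil => simp only [List.map_nil]
    | cons t ts => rw [okL_nil_cons] at h; exact Bool.noConfusion h
  | cons c cs ih =>
    intro ts hc h
    cases ts with
    | nil => rw [okL_cons_nil] at h; exact Bool.noConfusion h
    | cons t ts =>
      rw [okL_cons, Bool.and_eq_true] at h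
      have e1 := ih (fun d hd => hc d (List.mem_cons_of_mem _ hd)) h.2
      have e2 : ev f (mulC y c) = ev f (rp (Nat.div t 19683)) :=
        ev_chk hf (detC_mulC hy (hc c (List.mem_cons_self ..))) h.1
      rw [List.map_cons, List.map_cons, List.sum_cons, List.sum_cons, e1, e2]

theorem cnt_sum (G : Nat → ℂ) : ∀ {ts : List Nat}, small ts = true →
    (ts.map fun t => G (Nat.div t 19683)).sum = ∑ i ∈ Finset.range 12, (cnt i ts : ℂ) * G i := by
  intro ts
  induction ts with
  | nil => intro _; simp [cnt]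
  | cons t ts ih =>
    intro h
    simp only [small, Bool.and_eq_true, blt_iff] at h
    rw [List.map_cons, List.sum_cons, ih h.2]
    have h1 : ∀ i, (cnt i (t :: ts) : ℂ) * G i = (if i = Nat.div t 19683 then G i else 0) + (cnt i ts : ℂ) * G i := by
      intro i
      have h2 : cnt i (t :: ts) = cond (Nat.beq (Nat.div t 19683) i) 1 0 + cnt i ts := rfl
      rw [h2]
      by_cases h3 : i = Nat.div t 19683
      · rw [if_pos h3, ← h3, Nat.beq_refl]
        push_cast
        simp
        ring
      · rw [if_neg h3]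
        have h4 : Nat.beq (Nat.div t 19683) i = false := by
          rw [← Bool.not_eq_true, beq_iff]
          exact fun h5 => h3 h5.symm
        rw [h4]
        simp
    simp_rw [h1]
    rw [Finset.sum_add_distrib, Finset.sum_ite_eq', if_pos (Finset.mem_range.mpr h.1)]

/-- the value at the representative `i` -/
noncomputable def Fv (f : S → ℂ) (i : Nat) : ℂ := ev f (rp i)

/-- a weighted sum of the values -/
noncomputable def W (f : S → ℂ) (c : List Nat) : ℂ :=
  ∑ i ∈ Finset.range 12, ((c.getD i 0 : Nat) : ℂ) * Fv f i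

theorem sum_items {ts : List Nat} (hs : small ts = true) {c : List Nat} (hc : cnts ts = c) :
    (ts.map fun t => ev f (rp (Nat.div t 19683))).sum = W f c := by
  rw [cnt_sum (fun i => ev f (rp i)) hs, ← hc]
  unfold W Fv
  refine Finset.sum_congr rfl fun i hi => ?_
  rw [Finset.mem_range] at hi
  congr 2
  interval_cases i <;> rfl

/-! ### Subgroups -/

theorem clos1_spec {a : Nat} {l m : List Nat} (h : clos1 a l m = true) : ∀ b ∈ m, mulC a b ∈ l := by
  induction m with
  | nil => simp
  | cons b m ih =>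
    simp only [clos1, Bool.and_eq_true, memb_iff] at h
    intro c hc
    rw [List.mem_cons] at hc
    rcases hc with rfl | hc
    · exact h.1
    · exact ih h.2 c hc

theorem clos_spec {l m : List Nat} (h : clos l m = true) : ∀ a ∈ m, ∀ b ∈ l, mulC a b ∈ l := by
  induction m with
  | nil => simp
  | cons b m ih =>
    simp only [clos, Bool.and_eq_true] at h
    intro a ha
    rw [List.mem_cons] at ha
    rcases ha with rfl | ha
    · exact clos1_spec h.1
    · exact ih h.2 a ha

theorem cd_one : cd 1 = 6643 := by decide +kernel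

/-- the subgroup of a list -/
def sub (l : List Nat) (h1 : 6643 ∈ l) (h : clos l l = true) : Subgroup S where
  carrier := {g | cd g ∈ l}
  one_mem' := by
    show cd 1 ∈ l
    rw [cd_one]; exact h1
  mul_mem' := by
    intro a b ha hb
    show cd (a * b) ∈ l
    rw [cd_mul]
    exact clos_spec h _ ha _ hb
  inv_mem' := by
    intro a ha
    have hp : ∀ n : ℕ, cd (a ^ n) ∈ l := by
      intro n
      induction n with
      | zero => rw [pow_zero, cd_one]; exact h1
      | succ n ih => rw [pow_succ, cd_mul]; exact clos_spec h _ ih _ ha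
    have h2 : a⁻¹ = a ^ (orderOf a - 1) := by
      apply inv_eq_of_mul_eq_one_right
      rw [← pow_succ']
      have : orderOf a - 1 + 1 = orderOf a := Nat.sub_add_cancel (orderOf_pos a)
      rw [this, pow_orderOf_eq_one]
    show cd a⁻¹ ∈ l
    rw [h2]
    exact hp _

theorem mem_sub {l : List Nat} {h1 : 6643 ∈ l} {h : clos l l = true} {g : S} : g ∈ sub l h1 h ↔ cd g ∈ l := Iff.rfl

theorem sum_sub {l : List Nat} {h1 : 6643 ∈ l} {h : clos l l = true} (hv : valid l = true) (F : S → ℂ) :
    ∑ᶠ g : sub l h1 h, F g = (l.map (ev F)).sum := by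
  classical
  obtain ⟨v1, v2⟩ := valid_spec hv
  rw [← sum_list v1 v2, finsum_eq_sum_of_fintype]
  rw [← Finset.sum_subtype (Finset.univ.filter fun g : S => cd g ∈ l) (p := fun g => g ∈ sub l h1 h)
    (by intro x; rw [Finset.mem_filter]; exact ⟨fun hx => hx.2, fun hx => ⟨Finset.mem_univ _, hx⟩⟩) F]

theorem card_sub {l : List Nat} {h1 : 6643 ∈ l} {h : clos l l = true} (hv : valid l = true) :
    Nat.card (sub l h1 h) = l.length := by
  classical
  obtain ⟨v1, v2⟩ := valid_spec hv
  rw [← List.toFinset_card_of_nodup v1, Nat.card_eq_fintype_card, ← Fintype.card_coe]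
  refine Fintype.card_congr (Equiv.ofBijective (fun g : sub l h1 h => (⟨cd g.1, ?_⟩ : l.toFinset)) ⟨?_, ?_⟩)
  · rw [List.mem_toFinset]; exact g.2
  · intro a b e
    exact Subtype.ext (cd_inj (Subtype.mk.inj e))
  · rintro ⟨c, hc⟩
    rw [List.mem_toFinset] at hc
    obtain ⟨i1, i2⟩ := v2 c hc
    refine ⟨⟨el c i2, ?_⟩, ?_⟩
    · show cd (el c i2) ∈ l
      rw [cd_el i2 i1]; exact hc
    · apply Subtype.ext
      exact cd_el i2 i1

theorem mulC_one {c : Nat} (hc : c < 19683) : mulC 6643 c = c := by
  have h1 : tm (mulC 6643 c) = tm c := by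
    rw [tm_mul]
    have : tm 6643 = 1 := by decide +kernel
    rw [this, one_mul]
  rw [← cdM_tm (mulC_lt 6643 c), h1, cdM_tm hc]

/-- the average over a subgroup of the list -/
theorem sub_avg (hf : ∀ x y, f (x * y * x⁻¹) = f y) {l ts c : List Nat} {h1 : 6643 ∈ l}
    (h : and (valid l) (and (clos l l) (and (okL 6643 l ts) (small ts))) = true) (hc : cnts ts = c) :
    ∃ H : Subgroup S, Nat.card H = l.length ∧ ∑ᶠ g : H, f g = W f c := by
  simp only [Bool.and_eq_true] at h
  obtain ⟨hv, hcl, hok, hs⟩ := h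
  obtain ⟨v1, v2⟩ := valid_spec hv
  refine ⟨sub l h1 hcl, card_sub hv, ?_⟩
  rw [sum_sub hv, ← sum_items hs hc, ← okL_map hf (by decide +kernel) (fun c hc => (v2 c hc).2) hok]
  congr 1
  refine List.map_congr_left fun c hc => ?_
  rw [mulC_one (v2 c hc).1]

end Cfsg.Agent.H599.M23.Spec3
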